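import Cfsg.Agent.Lib.Local.FStar
import Cfsg.Agent.Lib.Perm.Fitting
import Cfsg.Agent.Lib.Solv.Thompson

/-! Bender's theorem on pairs of subgroups containing each other's generalized Fitting subgroup. -/

set_option autoImplicit false
set_option maxHeartbeats 1000000

namespace Cfsg.Agent.BenderPair

open Subgroup Cfsg

variable {G : Type*} [Group G] [Finite G]

/-- Normal subgroups of the first member inside the intersection have the intersection as normalizer in the second. -/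
def Prim (M₁ M₂ : Subgroup G) : Prop :=
  ∀ A : Subgroup G, A ≠ ⊥ → A ≤ M₁ ⊓ M₂ → M₁ ≤ normalizer (A : Set G) → M₂ ⊓ normalizer (A : Set G) = M₁ ⊓ M₂

theorem norm_map {M : Subgroup G} (A : Subgroup ↥M) [hA : A.Normal] : M ≤ normalizer (A.map M.subtype : Set G) := by
  intro g hg
  have key : ∀ g ∈ M, ∀ x ∈ A.map M.subtype, g * x * g⁻¹ ∈ A.map M.subtype := by
    rintro g hg _ ⟨x, hx, rfl⟩
    exact ⟨⟨g, hg⟩ * x * ⟨g, hg⟩⁻¹, hA.conj_mem x hx _, rfl⟩
  exact mem_normalizer_iff.mpr fun x => ⟨key g hg x, fun h => by simpa [mul_assoc] using key g⁻¹ (inv_mem hg) _ h⟩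

theorem layer_eq {M D : Subgroup G} (hD : D ≤ M) (hS : (generalizedFittingSubgroup ↥M).map M.subtype ≤ D) :
    (layer ↥D).map D.subtype = (layer ↥M).map M.subtype := by
  let ι := inclusion hD
  have hι : Function.Injective ι := inclusion_injective hD
  have hval : ∀ L : Subgroup ↥M, L ≤ generalizedFittingSubgroup ↥M → (L.comap ι).map ι = L := fun L hL =>
    map_comap_eq_self fun x hx => ⟨⟨(x : G), hS ⟨x, hL hx, rfl⟩⟩, rfl⟩
  have hle' : ∀ L : Subgroup ↥M, IsComponent L → L ≤ generalizedFittingSubgroup ↥M := fun L hL =>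
    le_sup_of_le_left (le_sSup hL)
  have hcomp : ∀ L : Subgroup ↥M, IsComponent L → IsComponent (L.comap ι) := fun L hL =>
    ⟨hL.1.comap ι, Local.qs_congr hL.2 ((MulEquiv.subgroupCongr (hval L (hle' L hL)).symm).trans
      ((L.comap ι).equivMapOfInjective ι hι).symm)⟩
  refine le_antisymm ?_ ?_
  · rw [layer, Subgroup.map_le_iff_le_comap]
    refine sSup_le fun K hK => ?_
    rw [← Subgroup.map_le_iff_le_comap]
    by_cases hex : ∃ L : Subgroup ↥M, IsComponent L ∧ K = L.comap ι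
    · obtain ⟨L, hL, rfl⟩ := hex
      rintro _ ⟨x, hx, rfl⟩
      exact ⟨ι x, (le_sSup hL : L ≤ layer ↥M) hx, rfl⟩
    exfalso
    have hcent : K.map ι ≤ centralizer (generalizedFittingSubgroup ↥M : Set ↥M) := by
      rw [le_centralizer_iff]
      refine sup_le (sSup_le fun L hL => ?_) ?_
      · rw [le_centralizer_iff, ← commutator_eq_bot_iff_le_centralizer,
          ← hval L (hle' L hL), ← Subgroup.map_commutator,
          Local.components_commute hK (hcomp L hL) fun e => hex ⟨L, hL, e⟩, Subgroup.map_bot]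
      · haveI := Solv.fittingSubgroup_normal ↥M
        haveI := Solv.fittingSubgroup_isNilpotent ↥M
        have hn : Group.IsNilpotent ↥((fittingSubgroup ↥M).comap ι) :=
          Group.nilpotent_of_mulEquiv ((((fittingSubgroup ↥M).comap ι).equivMapOfInjective ι hι).trans
            (MulEquiv.subgroupCongr (hval _ le_sup_right))).symm
        have hle : (fittingSubgroup ↥M).comap ι ≤ fittingSubgroup ↥D :=
          Solv.le_fittingSubgroup_of_isSubnormal (inferInstance : ((fittingSubgroup ↥M).comap ι).Normal).isSubnormal hn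
        rw [le_centralizer_iff, ← commutator_eq_bot_iff_le_centralizer, ← hval _ le_sup_right,
          ← Subgroup.map_commutator, eq_bot_iff.mpr ((commutator_mono le_rfl hle).trans
            (Local.component_commutator_fitting hK).le), Subgroup.map_bot]
    have hle := hcent.trans Local.centralizer_generalizedFitting_le
    refine Local.qs_not_isMulCommutative hK.2 ⟨⟨fun a b => Subtype.ext (hι ?_)⟩⟩
    rw [Subgroup.coe_mul, Subgroup.coe_mul, map_mul, map_mul]
    exact (mem_centralizer_iff.mp (hcent ⟨a, a.2, rfl⟩) _ (hle ⟨b, b.2, rfl⟩)).symm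
  · rw [layer, Subgroup.map_le_iff_le_comap]
    refine sSup_le fun L hL => ?_
    rw [← Subgroup.map_le_iff_le_comap, ← hval L (hle' L hL)]
    rintro _ ⟨_, ⟨x, hx, rfl⟩, rfl⟩
    exact ⟨x, (le_sSup (hcomp L hL) : L.comap ι ≤ layer ↥D) hx, rfl⟩

/-- The p-core of the intersection is the p-core of the first member. -/
theorem pCore_eq {M₁ M₂ : Subgroup G} (hP : Prim M₁ M₂) (hP' : Prim M₂ M₁)
    (hE : layer ↥M₁ = ⊥) (h1 : (generalizedFittingSubgroup ↥M₁).map M₁.subtype ≤ M₂)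
    (h2 : (generalizedFittingSubgroup ↥M₂).map M₂.subtype ≤ M₁)
    {p q : ℕ} [Fact p.Prime] [Fact q.Prime] (hpq : p ≠ q) (hq : pCore q ↥M₂ ≠ ⊥) :
    (pCore p ↥(M₁ ⊓ M₂)).map (M₁ ⊓ M₂).subtype ≤ (pCore p ↥M₁).map M₁.subtype := by
  set D := M₁ ⊓ M₂ with hDdef
  have core : ∀ (r : ℕ) [Fact r.Prime] (M : Subgroup G), D ≤ M →
      (generalizedFittingSubgroup ↥M).map M.subtype ≤ D →
      (pCore r ↥M).map M.subtype ≤ (pCore r ↥D).map D.subtype := by
    intro r _ M hM hS
    haveI := Perm.pCore_normal' (G := ↥M) r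
    rintro _ ⟨x, hx, rfl⟩
    have hxD : (x : G) ∈ D := hS ⟨x, (Perm.pCore_le_fitting r).trans le_sup_right hx, rfl⟩
    exact ⟨⟨x, hxD⟩, Solv.le_pCore (N := (pCore r ↥M).comap (inclusion hM))
      ((Perm.pCore_isPGroup' r).comap_of_injective _ (inclusion_injective hM)) hx, rfl⟩
  have hS1 : (generalizedFittingSubgroup ↥M₁).map M₁.subtype ≤ D := le_inf (map_subtype_le _) h1
  have hS2 : (generalizedFittingSubgroup ↥M₂).map M₂.subtype ≤ D := le_inf h2 (map_subtype_le _)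
  obtain ⟨Q2, hQ2⟩ : ∃ Q, Q = (pCore q ↥M₂).map M₂.subtype := ⟨_, rfl⟩
  have hQ2D : Q2 ≤ (pCore q ↥D).map D.subtype := hQ2 ▸ core q M₂ inf_le_right hS2
  have hcomm : ∀ (r s : ℕ) [Fact r.Prime] [Fact s.Prime], r ≠ s → ∀ x ∈ (pCore r ↥D).map D.subtype,
      ∀ y ∈ (pCore s ↥D).map D.subtype, x * y = y * x := by
    intro r s _ _ hrs x hx y hy
    obtain ⟨x, hx, rfl⟩ := hx
    obtain ⟨y, hy, rfl⟩ := hy
    exact congrArg Subtype.val (commute_of_normal_of_disjoint _ _ (Perm.pCore_normal' r) (Perm.pCore_normal' s)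
      (IsPGroup.disjoint_of_ne r s hrs _ _ (Perm.pCore_isPGroup' r) (Perm.pCore_isPGroup' s)) x y hx hy).eq
  -- the centralizer of the other parts
  obtain ⟨C1, hC1⟩ : ∃ C : Subgroup ↥M₁, C = ⨅ r : {r : ℕ // r.Prime ∧ r ≠ p}, centralizer (pCore r.1 ↥M₁ : Set ↥M₁) :=
    ⟨_, rfl⟩
  have hmemC : ∀ {c : ↥M₁}, c ∈ C1 ↔ ∀ r : ℕ, r.Prime → r ≠ p → ∀ u ∈ pCore r ↥M₁, u * c = c * u := by
    intro c
    simp only [hC1, mem_iInf, mem_centralizer_iff, Subtype.forall, SetLike.mem_coe, and_imp]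
  have hR : ∀ x : ↥D, x ∈ pCore p ↥D → inclusion inf_le_left x ∈ C1 := by
    intro x hx
    rw [hmemC]
    intro r hr hrp u hu
    haveI : Fact r.Prime := ⟨hr⟩
    exact Subtype.ext (hcomm r p hrp _ (core r M₁ inf_le_left hS1 ⟨u, hu, rfl⟩) _ ⟨x, hx, rfl⟩)
  -- elements of order prime to q in that centralizer lie in the intersection
  have hin : ∀ c ∈ C1, (orderOf c).Coprime q → (c : G) ∈ D := by
    intro c hc hcop
    have hcQ : (c : G) ∈ centralizer (Q2 : Set G) := by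
      rw [mem_centralizer_iff]
      intro y hy
      obtain ⟨y', hy', hye⟩ := hQ2D hy
      have hyM : y ∈ M₁ := (hye ▸ y'.2 : y ∈ D).1
      obtain ⟨w, hw⟩ : ∃ w : ↥M₁, w = c * ⟨y, hyM⟩ * c⁻¹ * ⟨y, hyM⟩⁻¹ := ⟨_, rfl⟩
      -- the commutator centralizes the Fitting subgroup
      have hwF : ∀ (r : ℕ), r.Prime → ∀ u ∈ pCore r ↥M₁, u * w = w * u := by
        intro r hr u hu
        haveI : Fact r.Prime := ⟨hr⟩
        haveI := Perm.pCore_normal' (G := ↥M₁) r
        by_cases hrp : r = p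
        · subst hrp
          have hy1 : ∀ v ∈ pCore r ↥M₁, v * (⟨y, hyM⟩ : ↥M₁) = ⟨y, hyM⟩ * v := fun v hv => Subtype.ext
            (hcomm r q hpq _ (core r M₁ inf_le_left hS1 ⟨v, hv, rfl⟩) _ (hQ2D hy))
          have e1 : u * (c * ⟨y, hyM⟩ * c⁻¹) = (c * ⟨y, hyM⟩ * c⁻¹) * u := by
            have h := hy1 (c⁻¹ * u * c) (by simpa using Normal.conj_mem (Perm.pCore_normal' r) u hu c⁻¹)
            have h' := congrArg (fun z => c * z * c⁻¹) h
            simpa [mul_assoc] using h'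
          rw [hw]
          exact ((show Commute u _ from e1).mul_right ((show Commute u (⟨y, hyM⟩ : ↥M₁) from hy1 u hu).inv_right)).eq
        · have hcu : ∀ v ∈ pCore r ↥M₁, v * c = c * v := hmemC.mp hc r hr hrp
          have hv := Normal.conj_mem (Perm.pCore_normal' r) u hu (⟨y, hyM⟩ : ↥M₁)⁻¹
          rw [inv_inv] at hv
          have hci : Commute u c⁻¹ := (show Commute u c from hcu u hu).inv_right
          have e1 := hcu _ hv
          rw [hw]
          -- compute both sides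
          calc u * (c * ⟨y, hyM⟩ * c⁻¹ * ⟨y, hyM⟩⁻¹)
              = c * ⟨y, hyM⟩ * ((⟨y, hyM⟩ : ↥M₁)⁻¹ * u * ⟨y, hyM⟩) * c⁻¹ * ⟨y, hyM⟩⁻¹ := by
                rw [← mul_assoc u, ← mul_assoc u, ← mul_assoc u, hcu u hu]; simp [mul_assoc]
            _ = c * ⟨y, hyM⟩ * c⁻¹ * ((⟨y, hyM⟩ : ↥M₁)⁻¹ * u * ⟨y, hyM⟩) * ⟨y, hyM⟩⁻¹ := by
                rw [mul_assoc (c * _) _ c⁻¹, ((show Commute _ c from e1).inv_right).eq]; simp [mul_assoc]
            _ = _ := by simp [mul_assoc]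
      haveI := Solv.fittingSubgroup_normal ↥M₁
      haveI := Solv.fittingSubgroup_isNilpotent ↥M₁
      have hwS : w ∈ centralizer (generalizedFittingSubgroup ↥M₁ : Set ↥M₁) := by
        have hle : generalizedFittingSubgroup ↥M₁ ≤ centralizer ({w} : Set ↥M₁) := by
          rw [generalizedFittingSubgroup, hE, bot_sup_eq]
          refine Perm.fitting_le_iSup_pCore.trans (iSup₂_le fun r hr u hu => ?_)
          exact mem_centralizer_singleton_iff.mpr (hwF r (Nat.prime_of_mem_primeFactors hr) u hu)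
        exact mem_centralizer_iff.mpr fun u hu => mem_centralizer_singleton_iff.mp (hle hu)
      have hwin : w ∈ fittingSubgroup ↥M₁ := by
        have := Local.centralizer_generalizedFitting_le hwS
        rwa [generalizedFittingSubgroup, hE, bot_sup_eq] at this
      have hwD : (w : G) ∈ D := hS1 ⟨w, le_sup_right (a := layer ↥M₁) hwin, rfl⟩
      -- it is a q-element
      haveI := Perm.pCore_normal' (G := ↥D) q
      have hyq : (⟨y, hye ▸ y'.2⟩ : ↥D) ∈ pCore q ↥D := by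
        have ee : y' = (⟨y, hye ▸ y'.2⟩ : ↥D) := Subtype.ext hye
        exact ee ▸ hy'
      obtain ⟨k, hk⟩ := Perm.pCore_isPGroup' (G := ↥D) q ⟨_, hyq⟩
      have hk1 : y ^ q ^ k = 1 := congrArg (fun z : ↥(pCore q ↥D) => ((z : ↥D) : G)) hk
      have hwk : (⟨(w : G), hwD⟩ : ↥D) ^ q ^ k ∈ pCore q ↥D := by
        rw [← QuotientGroup.eq_one_iff, ← QuotientGroup.mk'_apply, map_pow]
        have e2 : (⟨(w : G), hwD⟩ : ↥D) * ⟨y, hye ▸ y'.2⟩ = ⟨(w : G) * y, mul_mem hwD (hye ▸ y'.2)⟩ := rfl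
        have e3 : ((⟨(w : G) * y, mul_mem hwD (hye ▸ y'.2)⟩ : ↥D)) ^ q ^ k = 1 := Subtype.ext (by
          rw [SubmonoidClass.coe_pow]
          show ((w : G) * y) ^ q ^ k = 1
          rw [show (w : G) * y = (c : G) * y * (c : G)⁻¹ by rw [hw]; simp [mul_assoc]]
          rw [conj_pow, hk1, mul_one, mul_inv_cancel])
        have h := congrArg (QuotientGroup.mk' (pCore q ↥D)) e3
        rw [← e2, map_pow, map_mul, show QuotientGroup.mk' (pCore q ↥D) ⟨y, hye ▸ y'.2⟩ = 1 from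
          (QuotientGroup.eq_one_iff _).mpr hyq, mul_one, map_one] at h
        exact h
      obtain ⟨l, hl⟩ := Perm.pCore_isPGroup' (G := ↥D) q ⟨_, hwk⟩
      have hwq : w ^ (q ^ k * q ^ l) = 1 := Subtype.ext (by
        have := congrArg (fun z : ↥(pCore q ↥D) => ((z : ↥D) : G)) hl
        simpa [← pow_mul] using this)
      have hwcore : w ∈ pCore q ↥M₁ := by
        have hsn : ((zpowers (⟨w, hwin⟩ : ↥(fittingSubgroup ↥M₁))).map (fittingSubgroup ↥M₁).subtype).IsSubnormal :=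
          (Solv.isSubnormal_of_isNilpotent _).trans' (inferInstance : (fittingSubgroup ↥M₁).Normal).isSubnormal
        refine Solv.le_pCore_of_isSubnormal hsn ?_ ⟨_, mem_zpowers _, rfl⟩
        rintro ⟨_, _, ⟨i, rfl⟩, rfl⟩
        refine ⟨k + l, Subtype.ext ?_⟩
        rw [SubmonoidClass.coe_pow, OneMemClass.coe_one]
        show ((fittingSubgroup ↥M₁).subtype (⟨w, hwin⟩ ^ i)) ^ q ^ (k + l) = 1
        rw [map_zpow, pow_add, ← zpow_natCast, zpow_comm, zpow_natCast]
        show (w ^ (q ^ k * q ^ l)) ^ i = 1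
        rw [hwq, one_zpow]
      have hcw : Commute w c := hmemC.mp hc q (Fact.out) (Ne.symm hpq) w hwcore
      have hit : ∀ n : ℕ, c ^ n * ⟨y, hyM⟩ * (c ^ n)⁻¹ = w ^ n * ⟨y, hyM⟩ := by
        intro n
        induction n with
        | zero => simp
        | succ n ih =>
          calc c ^ (n + 1) * ⟨y, hyM⟩ * (c ^ (n + 1))⁻¹ = c * (c ^ n * ⟨y, hyM⟩ * (c ^ n)⁻¹) * c⁻¹ := by
                rw [pow_succ', mul_inv_rev]; simp [mul_assoc]
            _ = (c * w ^ n) * ⟨y, hyM⟩ * c⁻¹ := by rw [ih]; simp [mul_assoc]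
            _ = w ^ n * (c * ⟨y, hyM⟩ * c⁻¹) := by rw [← (hcw.pow_left n).eq]; simp [mul_assoc]
            _ = w ^ (n + 1) * ⟨y, hyM⟩ := by rw [pow_succ, hw]; simp [mul_assoc]
      have h0 := hit (orderOf c)
      rw [pow_orderOf_eq_one, one_mul, inv_one, mul_one, eq_comm, mul_eq_right] at h0
      have hw1 : w = 1 := by
        refine orderOf_eq_one_iff.mp (Nat.dvd_one.mp ?_)
        have hc' : (orderOf c).Coprime (q ^ k * q ^ l) := by rw [← pow_add]; exact hcop.pow_right _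
        exact hc' ▸ Nat.dvd_gcd (orderOf_dvd_of_pow_eq_one h0) (orderOf_dvd_of_pow_eq_one hwq)
      have e4 : (c : G) * y * (c : G)⁻¹ = y := by
        have := congrArg Subtype.val (hw.symm.trans hw1)
        simpa [mul_inv_eq_one] using this
      exact (mul_inv_eq_iff_eq_mul.mp e4).symm
    have hQ2n : M₂ ≤ normalizer (Q2 : Set G) := by
      haveI := Perm.pCore_normal' (G := ↥M₂) q
      exact hQ2 ▸ norm_map _
    have hne : Q2 ≠ ⊥ := hQ2 ▸ fun e => hq ((map_eq_bot_iff_of_injective _ M₂.subtype_injective).mp e)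
    have hN := hP' Q2 hne (inf_comm M₁ M₂ ▸ (hQ2D.trans (map_subtype_le _))) hQ2n
    have : (c : G) ∈ M₁ ⊓ normalizer (Q2 : Set G) := mem_inf.mpr ⟨c.2, mem_normalizer_iff.mpr fun z => by
      constructor
      · intro hz; rw [← mem_centralizer_iff.mp hcQ z hz, mul_inv_cancel_right]; exact hz
      · intro hz
        have h := mem_centralizer_iff.mp (inv_mem hcQ) _ hz
        have h2 := congrArg (fun w => w * (c : G)) h
        simp only [mul_assoc, inv_mul_cancel_left, inv_mul_cancel, mul_one] at h2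
        have e : z = (c : G) * z * (c : G)⁻¹ := by simpa [mul_assoc] using h2.symm
        rw [e]; exact hz⟩
    rw [hN, inf_comm] at this
    exact this
  -- the subgroup generated by those elements
  obtain ⟨K, hK⟩ : ∃ K : Subgroup ↥M₁, K = closure {c | c ∈ C1 ∧ (orderOf c).Coprime q} := ⟨_, rfl⟩
  haveI hKn : K.Normal := ⟨fun x hx g => by
    rw [hK] at hx ⊢
    induction hx using closure_induction with
    | mem c hc =>
      refine subset_closure ⟨hmemC.mpr fun r hr hrp u hu => ?_, ?_⟩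
      · haveI : Fact r.Prime := ⟨hr⟩
        have hv : g⁻¹ * u * g ∈ pCore r ↥M₁ := by
          simpa using Normal.conj_mem (Perm.pCore_normal' r) u hu g⁻¹
        have e := congrArg (fun z => g * z * g⁻¹) (hmemC.mp hc.1 r hr hrp _ hv)
        simpa [mul_assoc] using e
      · rw [show g * c * g⁻¹ = MulAut.conj g c from rfl, MulEquiv.orderOf_eq]; exact hc.2
    | one => simp
    | mul a b _ _ ha hb => rw [← conj_mul]; exact mul_mem ha hb
    | inv a _ ha => rw [← conj_inv]; exact inv_mem ha⟩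
  have hKD : ∀ c ∈ K, (c : G) ∈ D := by
    have : K ≤ D.subgroupOf M₁ := hK ▸ (closure_le _).mpr fun c hc => hin c hc.1 hc.2
    exact fun c hc => mem_subgroupOf.mp (this hc)
  let R : Subgroup ↥M₁ := (pCore p ↥D).map (inclusion inf_le_left)
  have hRK : R ≤ K := by
    rintro _ ⟨x, hx, rfl⟩
    rw [hK]
    refine subset_closure ⟨hR x hx, ?_⟩
    obtain ⟨k, hk⟩ := Perm.pCore_isPGroup' (G := ↥D) p ⟨x, hx⟩
    refine Nat.Coprime.coprime_dvd_left (orderOf_dvd_of_pow_eq_one (n := p ^ k) ?_)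
      ((Nat.coprime_primes Fact.out Fact.out).mpr hpq |>.pow_left k)
    rw [← map_pow, show x ^ p ^ k = 1 from congrArg Subtype.val hk, map_one]
  haveI : (R.subgroupOf K).Normal := ⟨fun a ha s => by
    obtain ⟨x, hx, he⟩ := ha
    refine ⟨⟨(s : ↥M₁), hKD _ s.2⟩ * x * ⟨(s : ↥M₁), hKD _ s.2⟩⁻¹, Normal.conj_mem (Perm.pCore_normal' p) x hx _, ?_⟩
    rw [map_mul, map_mul, map_inv, he]; rfl⟩
  have hsn : R.IsSubnormal := by
    have := (inferInstance : (R.subgroupOf K).Normal).isSubnormal.trans' hKn.isSubnormal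
    rwa [subgroupOf_map_subtype, inf_eq_left.mpr hRK] at this
  have := Solv.le_pCore_of_isSubnormal hsn ((Perm.pCore_isPGroup' p).map _)
  rintro _ ⟨x, hx, rfl⟩
  exact ⟨inclusion inf_le_left x, this ⟨x, hx, rfl⟩, rfl⟩

/-- The theorem. -/
theorem main {M₁ M₂ : Subgroup G} (hne : M₁ ≠ M₂) (hP : Prim M₁ M₂) (hP' : Prim M₂ M₁)
    (h1 : (generalizedFittingSubgroup ↥M₁).map M₁.subtype ≤ M₂)
    (h2 : (generalizedFittingSubgroup ↥M₂).map M₂.subtype ≤ M₁) :
    ∃ p : ℕ, p.Prime ∧ generalizedFittingSubgroup ↥M₁ = pCore p ↥M₁ ∧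
      generalizedFittingSubgroup ↥M₂ = pCore p ↥M₂ := by
  have hS1 : (generalizedFittingSubgroup ↥M₁).map M₁.subtype ≤ M₁ ⊓ M₂ := le_inf (map_subtype_le _) h1
  have hS2 : (generalizedFittingSubgroup ↥M₂).map M₂.subtype ≤ M₁ ⊓ M₂ := le_inf h2 (map_subtype_le _)
  have both : ∀ A : Subgroup G, A ≤ M₁ ⊓ M₂ → M₁ ≤ normalizer (A : Set G) → M₂ ≤ normalizer (A : Set G) → A = ⊥ := by
    intro A hA n1 n2
    by_contra hA1
    have e1 := hP A hA1 hA n1
    have e2 := hP' A hA1 (inf_comm M₁ M₂ ▸ hA) n2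
    rw [inf_eq_left.mpr n2] at e1
    rw [inf_eq_left.mpr n1] at e2
    exact hne (le_antisymm (e2.le.trans inf_le_left) (e1.le.trans inf_le_left))
  have hE : layer ↥M₁ = ⊥ ∧ layer ↥M₂ = ⊥ := by
    have l1 := layer_eq inf_le_left hS1
    have l2 := layer_eq inf_le_right hS2
    have : (layer ↥M₁).map M₁.subtype = ⊥ := by
      haveI := Local.layer_normal (G := ↥M₁)
      haveI := Local.layer_normal (G := ↥M₂)
      refine both _ ((Subgroup.map_mono le_sup_left).trans hS1) (norm_map _) ?_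
      rw [l1.symm.trans l2]
      exact norm_map _
    exact ⟨(map_eq_bot_iff_of_injective _ M₁.subtype_injective).mp this,
      (map_eq_bot_iff_of_injective _ M₂.subtype_injective).mp ((l2.symm.trans l1).trans this)⟩
  have nz : ∀ M : Subgroup G, layer ↥M = ⊥ → M ≠ ⊥ → ∃ r : ℕ, r.Prime ∧ pCore r ↥M ≠ ⊥ := by
    intro M hM hMne
    by_contra hh
    push_neg at hh
    have hF : generalizedFittingSubgroup ↥M = ⊥ := by
      rw [generalizedFittingSubgroup, hM, bot_sup_eq, eq_bot_iff]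
      exact Perm.fitting_le_iSup_pCore.trans (iSup₂_le fun r hr => (hh r (Nat.prime_of_mem_primeFactors hr)).le)
    have hcg := Local.centralizer_generalizedFitting_le (G := ↥M)
    rw [hF, le_bot_iff] at hcg
    haveI : Nontrivial ↥M := (nontrivial_iff_ne_bot M).mpr hMne
    obtain ⟨x, hx⟩ := exists_ne (1 : ↥M)
    have hxc : x ∈ centralizer ((⊥ : Subgroup ↥M) : Set ↥M) := mem_centralizer_iff.mpr (by simp)
    rw [hcg, mem_bot] at hxc
    exact hx hxc
  have hM1 : M₁ ≠ ⊥ := fun e => by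
    have h0 : (generalizedFittingSubgroup ↥M₂).map M₂.subtype = ⊥ := le_bot_iff.mp (e ▸ h2)
    by_cases e2 : M₂ = ⊥
    · exact hne (e.trans e2.symm)
    obtain ⟨r, hr, hrne⟩ := nz M₂ hE.2 e2
    haveI : Fact r.Prime := ⟨hr⟩
    exact hrne (le_bot_iff.mp (((Perm.pCore_le_fitting r).trans le_sup_right).trans
      ((map_eq_bot_iff_of_injective _ M₂.subtype_injective).mp h0).le))
  have hM2 : M₂ ≠ ⊥ := fun e => by
    have h0 : (generalizedFittingSubgroup ↥M₁).map M₁.subtype = ⊥ := le_bot_iff.mp (e ▸ h1)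
    obtain ⟨r, hr, hrne⟩ := nz M₁ hE.1 hM1
    haveI : Fact r.Prime := ⟨hr⟩
    exact hrne (le_bot_iff.mp (((Perm.pCore_le_fitting r).trans le_sup_right).trans
      ((map_eq_bot_iff_of_injective _ M₁.subtype_injective).mp h0).le))
  have big : ∀ (N : Subgroup G) (p : ℕ) [Fact p.Prime], M₁ ⊓ M₂ ≤ N →
      (generalizedFittingSubgroup ↥N).map N.subtype ≤ M₁ ⊓ M₂ →
      (pCore p ↥N).map N.subtype ≤ (pCore p ↥(M₁ ⊓ M₂)).map (M₁ ⊓ M₂).subtype := by
    intro N p _ hN hS
    haveI := Perm.pCore_normal' (G := ↥N) p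
    rintro _ ⟨x, hx, rfl⟩
    have hxD : (x : G) ∈ M₁ ⊓ M₂ := hS ⟨x, (Perm.pCore_le_fitting p).trans le_sup_right hx, rfl⟩
    exact ⟨⟨x, hxD⟩, Solv.le_pCore (N := (pCore p ↥N).comap (inclusion hN))
      ((Perm.pCore_isPGroup' p).comap_of_injective _ (inclusion_injective hN)) hx, rfl⟩
  -- two different primes are impossible
  have diff : ∀ p q : ℕ, p.Prime → q.Prime → p ≠ q → pCore p ↥M₁ ≠ ⊥ → pCore q ↥M₂ ≠ ⊥ →
      pCore q ↥M₁ = ⊥ := by
    intro p q hp hq hpq hp1 hq2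
    haveI : Fact p.Prime := ⟨hp⟩
    haveI : Fact q.Prime := ⟨hq⟩
    by_contra hq1
    have e1 := pCore_eq (p := p) hP hP' hE.1 h1 h2 hpq hq2
    have e2 := pCore_eq (p := p) hP' hP hE.2 h2 h1 hpq hq1
    rw [inf_comm M₂ M₁] at e2
    refine hp1 ((map_eq_bot_iff_of_injective _ M₁.subtype_injective).mp ?_)
    haveI := Perm.pCore_normal' (G := ↥M₁) p
    haveI := Perm.pCore_normal' (G := ↥M₂) p
    refine both _ ((Subgroup.map_mono ((Perm.pCore_le_fitting p).trans le_sup_right)).trans hS1) (norm_map _) ?_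
    rw [show (pCore p ↥M₁).map M₁.subtype = (pCore p ↥M₂).map M₂.subtype from
      le_antisymm ((big M₁ p inf_le_left hS1).trans e2) ((big M₂ p inf_le_right hS2).trans e1)]
    exact norm_map _
  have sub : ∀ q : ℕ, q.Prime → pCore q ↥M₂ ≠ ⊥ → pCore q ↥M₁ ≠ ⊥ := by
    intro q hq hq2 hq1
    haveI : Fact q.Prime := ⟨hq⟩
    haveI := Perm.pCore_normal' (G := ↥M₂) q
    refine hq2 ((eq_bot_iff_forall _).mpr fun x hx => ?_)
    have hxD : (x : G) ∈ M₁ ⊓ M₂ := hS2 ⟨x, (Perm.pCore_le_fitting q).trans le_sup_right hx, rfl⟩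
    have hc : (⟨(x : G), hxD.1⟩ : ↥M₁) ∈ centralizer (generalizedFittingSubgroup ↥M₁ : Set ↥M₁) := by
      have hle : generalizedFittingSubgroup ↥M₁ ≤ centralizer ({⟨(x : G), hxD.1⟩} : Set ↥M₁) := by
        rw [generalizedFittingSubgroup, hE.1, bot_sup_eq]
        refine Perm.fitting_le_iSup_pCore.trans (iSup₂_le fun r hr u hu => ?_)
        haveI : Fact r.Prime := ⟨Nat.prime_of_mem_primeFactors hr⟩
        by_cases hrq : r = q
        · subst hrq; rw [hq1, mem_bot] at hu; subst hu; exact one_mem _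
        obtain ⟨a, ha, hau⟩ := big M₁ r inf_le_left hS1 ⟨u, hu, rfl⟩
        obtain ⟨b, hb, hbx⟩ := big M₂ q inf_le_right hS2 ⟨x, hx, rfl⟩
        have := congrArg Subtype.val (commute_of_normal_of_disjoint _ _ (Perm.pCore_normal' r) (Perm.pCore_normal' q)
          (IsPGroup.disjoint_of_ne r q hrq _ _ (Perm.pCore_isPGroup' r) (Perm.pCore_isPGroup' q)) a b ha hb).eq
        refine mem_centralizer_singleton_iff.mpr (Subtype.ext ?_)
        simp only [Subgroup.coe_subtype] at hau hbx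
        simp only [Subgroup.coe_mul] at this ⊢
        rw [← hau, ← hbx]; exact this
      exact mem_centralizer_iff.mpr fun u hu => mem_centralizer_singleton_iff.mp (hle hu)
    have hin := Local.centralizer_generalizedFitting_le hc
    rw [generalizedFittingSubgroup, hE.1, bot_sup_eq] at hin
    haveI := Solv.fittingSubgroup_normal ↥M₁
    haveI := Solv.fittingSubgroup_isNilpotent ↥M₁
    have hsn : ((zpowers (⟨_, hin⟩ : ↥(fittingSubgroup ↥M₁))).map (fittingSubgroup ↥M₁).subtype).IsSubnormal :=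
      (Solv.isSubnormal_of_isNilpotent _).trans' (inferInstance : (fittingSubgroup ↥M₁).Normal).isSubnormal
    have hz : (⟨(x : G), hxD.1⟩ : ↥M₁) ∈ pCore q ↥M₁ := by
      obtain ⟨k, hk⟩ := Perm.pCore_isPGroup' (G := ↥M₂) q ⟨x, hx⟩
      have hk' : (⟨(x : G), hxD.1⟩ : ↥M₁) ^ q ^ k = 1 :=
        Subtype.ext (congrArg (fun z : ↥(pCore q ↥M₂) => ((z : ↥M₂) : G)) hk)
      refine Solv.le_pCore_of_isSubnormal hsn ?_ ⟨_, mem_zpowers _, rfl⟩
      rintro ⟨_, _, ⟨i, rfl⟩, rfl⟩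
      refine ⟨k, Subtype.ext ?_⟩
      rw [SubmonoidClass.coe_pow, OneMemClass.coe_one]
      show ((fittingSubgroup ↥M₁).subtype (⟨_, hin⟩ ^ i)) ^ q ^ k = 1
      rw [map_zpow, ← zpow_natCast, zpow_comm, zpow_natCast]
      show ((⟨(x : G), hxD.1⟩ : ↥M₁) ^ q ^ k) ^ i = 1
      rw [hk', one_zpow]
    rw [hq1, mem_bot] at hz
    exact Subtype.ext (congrArg Subtype.val hz :)
  obtain ⟨p, hp, hp2⟩ := nz M₂ hE.2 hM2
  haveI : Fact p.Prime := ⟨hp⟩
  have hp1 := sub p hp hp2
  have only2 : ∀ r : ℕ, r.Prime → r ≠ p → pCore r ↥M₂ = ⊥ := by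
    intro r hr hrp
    by_contra hne'
    exact (sub r hr hne') (diff p r hp hr (Ne.symm hrp) hp1 hne')
  have only1 : ∀ r : ℕ, r.Prime → r ≠ p → pCore r ↥M₁ = ⊥ := by
    intro r hr hrp
    by_contra hne'
    exact hp1 (diff r p hr hp hrp hne' hp2)
  have single : ∀ M : Subgroup G, layer ↥M = ⊥ → (∀ r : ℕ, r.Prime → r ≠ p → pCore r ↥M = ⊥) →
      generalizedFittingSubgroup ↥M = pCore p ↥M := by
    intro M hM ho
    refine le_antisymm ?_ ((Perm.pCore_le_fitting p).trans le_sup_right)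
    rw [generalizedFittingSubgroup, hM, bot_sup_eq]
    refine Perm.fitting_le_iSup_pCore.trans (iSup₂_le fun r hr => ?_)
    by_cases hrp : r = p
    · rw [hrp]
    · rw [ho r (Nat.prime_of_mem_primeFactors hr) hrp]; exact bot_le
  exact ⟨p, hp, single M₁ hE.1 only1, single M₂ hE.2 only2⟩

end Cfsg.Agent.BenderPair
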