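/-! Shared helper library lives under `Cfsg/Agent/Lib/<Area>/`. See the team database table `lib`. -/
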