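import Mathlib

/-! Soft subgroups of finite p-groups. -/

set_option autoImplicit false
set_option maxHeartbeats 1000000

namespace Cfsg.Agent.SoftSub

open Subgroup

variable {G : Type*} [Group G] {p : ℕ}

/-- An abelian self-centralizing subgroup of index `p` in its normalizer and index at least `p ^ 2`. -/
structure Soft (p : ℕ) (E : Subgroup G) : Prop where
  comm : ∀ a ∈ E, ∀ b ∈ E, a * b = b * a
  cent : centralizer (E : Set G) ≤ E
  rel : E.relIndex (normalizer (E : Set G)) = p
  idx : p ^ 2 ≤ E.index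

theorem relIndex_eq_one_or [Fact p.Prime] {A B C : Subgroup G} (hAB : A ≤ B) (hBC : B ≤ C)
    (h : A.relIndex C = p) : A = B ∨ B = C := by
  have hm := relIndex_mul_relIndex A B C hAB hBC
  rw [h] at hm
  rcases Nat.prime_mul_iff.mp (hm.symm ▸ (Fact.out : p.Prime)) with ⟨-, e⟩ | ⟨-, e⟩
  · exact Or.inr (le_antisymm hBC (relIndex_eq_one.mp e))
  · exact Or.inl (le_antisymm hAB (relIndex_eq_one.mp e))

theorem norm_map {G' : Type*} [Group G'] {f : G →* G'} (hs : Function.Surjective f) {H : Subgroup G} (h : f.ker ≤ H) :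
    normalizer (H.map f : Set G') = (normalizer (H : Set G)).map f := by
  conv_rhs => rw [← comap_map_eq_self h, ← comap_normalizer_eq_of_surjective (H.map f) hs,
    map_comap_eq_self_of_surjective hs]

variable [Finite G] [Fact p.Prime] (hG : IsPGroup p G)

include hG

theorem lt_normalizer {H : Subgroup G} (h : H ≠ ⊤) : H < normalizer (H : Set G) := by
  haveI := hG.isNilpotent
  exact normalizerCondition_of_isNilpotent H h.lt_top

/-- A subgroup strictly between two others gives a normalizer step inside the larger one. -/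
theorem exists_norm_mem {M K : Subgroup G} (h : M < K) : ∃ x ∈ K, x ∈ normalizer (M : Set G) ∧ x ∉ M := by
  have hlt := lt_normalizer (hG.to_subgroup K) (H := M.subgroupOf K) (fun e => h.not_ge (subgroupOf_eq_top.mp e))
  obtain ⟨⟨x, hx⟩, hxn, hxm⟩ := SetLike.exists_of_lt hlt
  refine ⟨x, hx, mem_normalizer_iff.mpr fun y => ?_, fun e => hxm e⟩
  have hn := mem_normalizer_iff.mp hxn
  constructor
  · exact fun hy => (hn ⟨y, h.le hy⟩).mp hy
  · intro hy
    have hyK : y ∈ K := by
      have := mul_mem (mul_mem (inv_mem hx) (h.le hy)) hx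
      simpa [mul_assoc] using this
    exact (hn ⟨y, hyK⟩).mpr hy

theorem norm_le_of_lt {E M K : Subgroup G} (hE : E ≤ M)
    (hstep : M.relIndex (normalizer (M : Set G)) = p) (h : M < K) : normalizer (M : Set G) ≤ K := by
  obtain ⟨x, hx, hxn, hxm⟩ := exists_norm_mem hG h
  rcases relIndex_eq_one_or (A := M) (B := K ⊓ normalizer (M : Set G)) (le_inf h.le le_normalizer) inf_le_right hstep
    with e | e
  · exact absurd (e.symm ▸ mem_inf.mpr ⟨hx, hxn⟩) hxm
  · exact e ▸ inf_le_left

theorem chain {E : Subgroup G} (hstep : ∀ K, E ≤ K → K ≠ ⊤ → K.relIndex (normalizer (K : Set G)) = p)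
    {K L : Subgroup G} (hK : E ≤ K) (hL : E ≤ L) : K ≤ L ∨ L ≤ K := by
  by_contra hh
  rw [not_or] at hh
  have hM : E ≤ K ⊓ L := le_inf hK hL
  have h1 : K ⊓ L < K := lt_of_le_of_ne inf_le_left fun e => hh.1 (e ▸ inf_le_right)
  have h2 : K ⊓ L < L := lt_of_le_of_ne inf_le_right fun e => hh.2 (e ▸ inf_le_left)
  have ht := ne_top_of_lt h1
  exact (lt_normalizer hG ht).not_ge
    (le_inf (norm_le_of_lt hG hM (hstep _ hM ht) h1) (norm_le_of_lt hG hM (hstep _ hM ht) h2))

theorem base {E : Subgroup G} (hS : Soft p E) :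
    normalizer (E : Set G) ≠ ⊤ ∧
      (normalizer (E : Set G)).relIndex (normalizer (normalizer (E : Set G) : Set G)) = p := by
  set N := normalizer (E : Set G) with hNdef
  have hp : p.Prime := Fact.out
  have hNt : N ≠ ⊤ := by
    intro e
    have := hS.rel
    change E.relIndex N = p at this
    rw [e, relIndex_top_right] at this
    have h2 := hS.idx
    rw [this] at h2
    nlinarith [hp.two_le]
  refine ⟨hNt, ?_⟩
  set M := normalizer (N : Set G) with hMdef
  have hEN : E ≤ N := le_normalizer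
  have hlt := lt_normalizer hG hNt
  have hcard : Nat.card ↥N = p * Nat.card ↥E := by
    have := relIndex_mul_relIndex ⊥ E N bot_le hEN
    rw [relIndex_bot_left, relIndex_bot_left, hS.rel] at this
    rw [← this, mul_comm]
  -- the centre of the normalizer
  let Z : Subgroup G := centralizer (N : Set G)
  have hZE : Z ≤ E := (centralizer_le hEN).trans hS.cent
  have conjN : ∀ g ∈ M, ∀ e ∈ N, g * e * g⁻¹ ∈ N := fun g hg e he => (mem_normalizer_iff.mp hg e).mp he
  -- two conjugates meet in the centre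
  have meet : ∀ g ∈ M, g ∉ N → ∀ e ∈ E, g * e * g⁻¹ ∈ E → g * e * g⁻¹ ∈ Z := by
    intro g hg hgN e he hc
    rw [mem_centralizer_iff]
    obtain ⟨E', hE'⟩ : ∃ E' : Subgroup G, E' = E.map (MulAut.conj g).toMonoidHom := ⟨_, rfl⟩
    have hmemE' : ∀ w, w ∈ E' ↔ ∃ x ∈ E, g * x * g⁻¹ = w := fun w => by rw [hE', Subgroup.mem_map]; simp
    have hE'N : E' ≤ N := fun w hw => by
      obtain ⟨x, hx, rfl⟩ := (hmemE' w).mp hw
      exact conjN g hg x (hEN hx)
    have hAN : E ⊔ E' ≤ N := sup_le hEN hE'N
    have hA : E ⊔ E' = N := by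
      rcases relIndex_eq_one_or (B := E ⊔ E') le_sup_left hAN hS.rel with h | h
      · exfalso
        have hle : E' ≤ E := (le_sup_right : E' ≤ E ⊔ E').trans h.ge
        have heq : E' = E := by
          refine Subgroup.eq_of_le_of_card_ge hle ?_
          rw [hE', Subgroup.card_map_of_injective (f := (MulAut.conj g).toMonoidHom) (MulAut.conj g).injective]
        refine hgN (mem_normalizer_iff.mpr fun x => ⟨fun hx => ?_, fun hx => ?_⟩)
        · rw [← heq]; exact (hmemE' _).mpr ⟨x, hx, rfl⟩
        · rw [← heq] at hx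
          obtain ⟨y, hy, e'⟩ := (hmemE' _).mp hx
          rwa [← mul_left_cancel (mul_right_cancel e')]
      · exact h
    have hle : E ⊔ E' ≤ centralizer ({g * e * g⁻¹} : Set G) := by
      refine sup_le (fun x hx => mem_centralizer_singleton_iff.mpr (hS.comm x hx _ hc)) fun w hw => ?_
      obtain ⟨x, hx, rfl⟩ := (hmemE' w).mp hw
      refine mem_centralizer_singleton_iff.mpr ?_
      rw [conj_mul, conj_mul, hS.comm x hx e he]
    intro x hx
    exact mem_centralizer_singleton_iff.mp (hle (hA.symm ▸ hx))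
  -- count conjugates
  have hZN : ∀ g ∈ M, ∀ z, g * z * g⁻¹ ∈ Z → z ∈ Z := by
    intro g hg z hz
    rw [mem_centralizer_iff] at hz ⊢
    intro x hx
    have := hz _ (conjN g hg x hx)
    rw [conj_mul, conj_mul] at this
    exact mul_left_cancel (mul_right_cancel this)
  let S := (↥M ⧸ N.subgroupOf M) × {e : ↥E // (e : G) ∉ Z}
  let W := {w : ↥N // (w : G) ∉ Z}
  have hrep : ∀ (t : ↥M ⧸ N.subgroupOf M) (e : {e : ↥E // (e : G) ∉ Z}),
      ((t.out : G) * e.1 * (t.out : G)⁻¹) ∈ N ∧ ((t.out : G) * e.1 * (t.out : G)⁻¹) ∉ Z := fun t e =>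
    ⟨conjN _ t.out.2 _ (hEN e.1.2), fun h => e.2 (hZN _ t.out.2 _ h)⟩
  let f : S → W := fun x => ⟨⟨_, (hrep x.1 x.2).1⟩, (hrep x.1 x.2).2⟩
  have hf : Function.Injective f := by
    rintro ⟨t, e⟩ ⟨s, e'⟩ h
    have h' : (t.out : G) * e.1 * (t.out : G)⁻¹ = (s.out : G) * e'.1 * (s.out : G)⁻¹ :=
      congrArg (fun w : W => ((w.1 : ↥N) : G)) h
    let g : G := (s.out : G)⁻¹ * t.out
    have hg : g ∈ M := mul_mem (inv_mem s.out.2) t.out.2
    have hg' : g * e.1 * g⁻¹ = e'.1 := by
      have := congrArg (fun w => (s.out : G)⁻¹ * w * s.out) h'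
      simpa [g, mul_assoc] using this
    by_cases hgN : g ∈ N
    · have hts : s = t := by
        rw [← QuotientGroup.out_eq' s, ← QuotientGroup.out_eq' t]
        exact QuotientGroup.eq.mpr (mem_subgroupOf.mpr (by simpa [g] using hgN))
      subst hts
      refine Prod.ext rfl (Subtype.ext (Subtype.ext ?_))
      simpa using h'
    · exact absurd (hg'.symm ▸ meet g hg hgN e.1 e.1.2 (hg'.symm ▸ e'.1.2)) e'.2
  have hq : (N.subgroupOf M).index * Nat.card {e : ↥E // (e : G) ∉ Z} ≤ Nat.card W := by
    have := Nat.card_le_card_of_injective f hf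
    rwa [Nat.card_prod] at this
  have hcompl : ∀ A : Subgroup G, Z ≤ A → Nat.card ↥Z + Nat.card {e : ↥A // (e : G) ∉ Z} = Nat.card ↥A := by
    intro A hA
    classical
    rw [← Nat.card_congr (Subgroup.subgroupOfEquivOfLe hA).toEquiv]
    rw [← Nat.card_congr (Equiv.sumCompl fun e : ↥A => (e : G) ∈ Z), Nat.card_sum]
    rfl
  have c1 := hcompl E hZE
  have c2 := hcompl N (hZE.trans hEN)
  -- the centre has index p in E
  obtain ⟨g, hgM, hgN⟩ := SetLike.exists_of_lt hlt
  have hEZ : Nat.card ↥E ≤ p * Nat.card ↥Z := by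
    let E' := E.map (MulAut.conj g).toMonoidHom
    have hE'N : E' ≤ N := by rintro _ ⟨x, hx, rfl⟩; exact conjN g hgM x (hEN hx)
    have hint : E ⊓ E' ≤ Z := by
      rintro _ ⟨hx1, e, he, rfl⟩
      exact meet g hgM hgN e he hx1
    have h1 := relIndex_mul_relIndex ⊥ E' N bot_le hE'N
    have hc : Nat.card ↥E' = Nat.card ↥E := Subgroup.card_map_of_injective (MulAut.conj g).injective
    rw [relIndex_bot_left, relIndex_bot_left, hc, hcard] at h1
    have h2 : E'.relIndex N = p := Nat.eq_of_mul_eq_mul_left Nat.card_pos (by rw [h1, mul_comm])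
    have h3 : E'.relIndex E ≤ p := by
      rw [← h2]
      exact relIndex_le_of_le_right hEN (by rw [h2]; exact hp.ne_zero)
    have h4 := relIndex_mul_relIndex ⊥ (E' ⊓ E) E bot_le inf_le_right
    rw [relIndex_bot_left, relIndex_bot_left, inf_relIndex_right] at h4
    calc Nat.card ↥E = Nat.card ↥(E' ⊓ E) * E'.relIndex E := h4.symm
      _ ≤ Nat.card ↥Z * p := Nat.mul_le_mul (Subgroup.card_le_of_le (inf_comm E E' ▸ hint)) h3
      _ = _ := mul_comm _ _
  obtain ⟨k, hk⟩ := (hG.to_subgroup M).index (N.subgroupOf M)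
  change (N.subgroupOf M).index = p
  have hk1 : k ≠ 0 := by
    rintro rfl
    rw [pow_zero, index_eq_one, subgroupOf_eq_top] at hk
    exact hgN (hk hgM)
  have hz : Nat.card ↥Z < Nat.card ↥E := by
    refine (Subgroup.card_le_of_le hZE).lt_of_ne fun e => hgN ?_
    have hZE' : Z = E := Subgroup.eq_of_le_of_card_ge hZE e.ge
    have hNE : N ≤ E := fun x hx => hS.cent (mem_centralizer_iff.mpr fun y hy => by
      have := mem_centralizer_iff.mp (hZE'.symm ▸ hy : y ∈ Z) x hx
      exact this.symm)
    have := hS.rel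
    rw [relIndex_eq_one.mpr hNE] at this
    exact absurd this.symm hp.one_lt.ne'
  by_contra hne
  have hk2 : 2 ≤ k := by
    rcases k with _ | _ | k <;> simp_all
  have hqp : p ^ 2 ≤ (N.subgroupOf M).index := hk ▸ Nat.pow_le_pow_right hp.pos hk2
  have hd : (p ^ 2) * Nat.card {e : ↥E // (e : G) ∉ Z} ≤ Nat.card W := (Nat.mul_le_mul_right _ hqp).trans hq
  have hEZ' : p * Nat.card ↥Z ≤ Nat.card ↥E := by
    obtain ⟨m, hm⟩ := (hG.to_subgroup E).index (Z.subgroupOf E)
    have h4 := relIndex_mul_relIndex ⊥ Z E bot_le hZE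
    rw [relIndex_bot_left, relIndex_bot_left, show Z.relIndex E = p ^ m from hm] at h4
    rcases m with _ | m
    · rw [pow_zero, mul_one] at h4; omega
    · rw [← h4, mul_comm]
      exact Nat.mul_le_mul_left _ (Nat.le_self_pow (Nat.succ_ne_zero m) p)
  have hEq : Nat.card ↥E = p * Nat.card ↥Z := le_antisymm hEZ hEZ'
  obtain ⟨r, rfl⟩ : ∃ r, p = r + 2 := ⟨p - 2, by have := hp.two_le; omega⟩
  have hzpos : 0 < Nat.card ↥Z := Nat.card_pos
  have ha : Nat.card {e : ↥E // (e : G) ∉ Z} = (r + 1) * Nat.card ↥Z := by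
    rw [hEq] at c1; linarith
  rw [hcard, hEq] at c2
  rw [ha] at hd
  nlinarith [hd, c2, hzpos, Nat.zero_le (r * r * r), Nat.mul_le_mul_right (Nat.card ↥Z) (show 1 ≤ (r+1) * ((r+2)^2) - (r+2)^2 + 1 by omega)]

theorem map_soft {E : Subgroup G} (Z : Subgroup G) [Z.Normal] (hZE : Z ≤ E)
    (hcomm : ∀ a ∈ E, ∀ b ∈ E, a * b * a⁻¹ * b⁻¹ ∈ Z) (hcent : ∀ x, (∀ e ∈ E, x * e * x⁻¹ * e⁻¹ ∈ Z) → x ∈ E)
    (hrel : E.relIndex (normalizer (E : Set G)) = p) (hidx : p ^ 2 ≤ E.index) :
    Soft p (E.map (QuotientGroup.mk' Z)) ∧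
      normalizer (E.map (QuotientGroup.mk' Z) : Set (G ⧸ Z)) = (normalizer (E : Set G)).map (QuotientGroup.mk' Z) := by
  set q := QuotientGroup.mk' Z
  have hs : Function.Surjective q := QuotientGroup.mk'_surjective Z
  have hker : q.ker ≤ E := by rw [QuotientGroup.ker_mk']; exact hZE
  have hcom : ∀ a b, q a * q b = q b * q a ↔ a * b * a⁻¹ * b⁻¹ ∈ Z := fun a b => by
    rw [← QuotientGroup.eq_one_iff, ← QuotientGroup.mk'_apply, map_mul, map_mul, map_mul, map_inv, map_inv,
      mul_inv_eq_one, mul_inv_eq_iff_eq_mul]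
  have hN : normalizer (E.map q : Set (G ⧸ Z)) = (normalizer (E : Set G)).map q := norm_map hs hker
  refine ⟨⟨?_, ?_, ?_, ?_⟩, hN⟩
  · rintro _ ⟨a, ha, rfl⟩ _ ⟨b, hb, rfl⟩
    exact (hcom a b).mpr (hcomm a ha b hb)
  · intro y hy
    obtain ⟨x, rfl⟩ := hs y
    exact ⟨x, hcent x fun e he => (hcom x e).mp (mem_centralizer_iff.mp hy _ ⟨e, he, rfl⟩).symm, rfl⟩
  · rw [hN, relIndex_map_map, sup_eq_left.mpr hker, sup_eq_left.mpr (hker.trans le_normalizer), hrel]
  · rwa [index_map_eq _ hs hker]

omit hG in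
/-- The property proved by induction. -/
def Good (p : ℕ) (E : Subgroup G) : Prop :=
  (∀ K, E ≤ K → K ≠ ⊤ → K.relIndex (normalizer (K : Set G)) = p) ∧
    ∀ (i : ℕ) (K : Subgroup G), E ≤ K → K ≠ ⊤ → K.index * p ^ i = E.index →
      K.lowerCentralSeries (i + 1) = ⊥

omit [Fact p.Prime] hG in
theorem exp_le [hp : Fact p.Prime] {K : Subgroup G} {i n : ℕ} (h : K.index * p ^ i = n)
    {j : ℕ} (h' : K.index * p ^ j = n) : i = j :=
  Nat.pow_right_injective hp.out.two_le (Nat.eq_of_mul_eq_mul_left (Nat.pos_of_ne_zero index_ne_zero_of_finite) (h.trans h'.symm))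

/-- From the last term inside `E` to the class bound. -/
theorem lcs_bot {E K : Subgroup G} (hS : Soft p E)
    (hstep : ∀ K, E ≤ K → K ≠ ⊤ → K.relIndex (normalizer (K : Set G)) = p)
    (hEK : E ≤ K) (hK : K ≠ ⊤) {i : ℕ} (h : K.lowerCentralSeries i ≤ E) :
    K.lowerCentralSeries (i + 1) = ⊥ := by
  set Γ := K.lowerCentralSeries i
  set M := normalizer (K : Set G)
  have hΓ : ∀ g ∈ M, ∀ x ∈ Γ, g * x * g⁻¹ ∈ Γ := by
    intro g hg x hx
    have : (K.map (MulAut.conj g).toMonoidHom) = K := by
      refine le_antisymm ?_ fun y hy => ⟨g⁻¹ * y * g, ?_, by simp [mul_assoc]⟩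
      · rintro _ ⟨y, hy, rfl⟩; exact (mem_normalizer_iff.mp hg y).mp hy
      · refine (mem_normalizer_iff.mp hg _).mpr ?_
        simpa [mul_assoc] using hy
    have h2 := map_lowerCentralSeries K (MulAut.conj g).toMonoidHom i
    rw [this] at h2
    show _ ∈ K.lowerCentralSeries i
    rw [← h2]
    exact ⟨x, hx, rfl⟩
  let C := centralizer (Γ : Set G) ⊓ M
  have hEC : E ≤ C := le_inf (fun e he => mem_centralizer_iff.mpr fun x hx => hS.comm x (h hx) e he)
    (hEK.trans le_normalizer)
  have hMC : M ≤ normalizer (C : Set G) := by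
    intro g hg
    have key : ∀ g ∈ M, ∀ c ∈ C, g * c * g⁻¹ ∈ C := by
      intro g hg c hc
      obtain ⟨hc1, hc2⟩ := mem_inf.mp hc
      refine mem_inf.mpr ⟨mem_centralizer_iff.mpr fun x hx => ?_, mul_mem (mul_mem hg hc2) (inv_mem hg)⟩
      have := mem_centralizer_iff.mp hc1 _ (hΓ g⁻¹ (inv_mem hg) x hx)
      rw [inv_inv] at this
      have := congrArg (fun w => g * w * g⁻¹) this
      simpa [mul_assoc] using this
    refine mem_normalizer_iff.mpr fun c => ⟨key g hg c, fun hc => ?_⟩
    have := key g⁻¹ (inv_mem hg) _ hc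
    simpa [mul_assoc] using this
  have hKC : K ≤ C := by
    rcases chain hG hstep hEK hEC with e | e
    · exact e
    · by_contra hne
      have hCt : C ≠ ⊤ := fun e' => hK (top_le_iff.mp (e' ▸ e))
      rcases relIndex_eq_one_or (B := K) e (le_normalizer.trans hMC) (hstep C hEC hCt) with e' | e'
      · exact hne (e'.symm ▸ le_rfl)
      · exact (lt_normalizer hG hK).not_ge (hMC.trans e'.ge)
  rw [Subgroup.lowerCentralSeries_succ, commutator_eq_bot_iff_le_centralizer]
  intro x hx
  rw [mem_centralizer_iff]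
  intro y hy
  exact (mem_centralizer_iff.mp (mem_inf.mp (hKC hy)).1 x hx).symm

end Cfsg.Agent.SoftSub

namespace Cfsg.Agent.SoftSub

open Subgroup

theorem good {p : ℕ} [hp : Fact p.Prime] : ∀ (n : ℕ) (G : Type*) [Group G] [Finite G],
    IsPGroup p G → Nat.card G ≤ n → ∀ E : Subgroup G, Soft p E → Good p E := by
  intro n
  induction n with
  | zero => intro G _ _ _ hn; exact absurd hn (Nat.pos_iff_ne_zero.mp Nat.card_pos ∘ Nat.le_zero.mp)
  | succ n ih =>
    intro G _ _ hG hn E hS
    set N := normalizer (E : Set G) with hNdef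
    obtain ⟨hNt, hNstep⟩ := base hG hS
    haveI : Nontrivial G := by
      by_contra hh
      rw [not_nontrivial_iff_subsingleton] at hh
      exact hNt (Subsingleton.elim _ _)
    obtain ⟨z₀, hz₀, hz1⟩ : ∃ z ∈ center G, z ≠ 1 := by
      haveI := hG.center_nontrivial
      obtain ⟨⟨z, hz⟩, hne⟩ := exists_ne (1 : center G)
      exact ⟨z, hz, fun e => hne (Subtype.ext e)⟩
    let Z := zpowers z₀
    have hZc : Z ≤ center G := (zpowers_le).mpr hz₀
    haveI : Z.Normal := ⟨fun x hx g => by
      rw [mem_center_iff.mp (hZc hx) g, mul_inv_cancel_right]; exact hx⟩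
    have hZE : Z ≤ E := hZc.trans ((center_le_centralizer _).trans hS.cent)
    set q := QuotientGroup.mk' Z with hq
    have hs : Function.Surjective q := QuotientGroup.mk'_surjective Z
    have hker : q.ker = Z := QuotientGroup.ker_mk' Z
    have hsmall : Nat.card (G ⧸ Z) ≤ n := by
      have h1 : 1 < Nat.card ↥Z := (one_lt_card_iff_ne_bot Z).mpr (zpowers_ne_bot.mpr hz1)
      have h2 := Subgroup.card_eq_card_quotient_mul_card_subgroup Z
      have h3 : 0 < Nat.card (G ⧸ Z) := Nat.card_pos
      nlinarith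
    have hEN : E ≤ N := le_normalizer
    have indexN : N.index * p = E.index := by
      rw [← hS.rel, mul_comm]; exact relIndex_mul_index hEN
    -- above the normalizer
    have above : ∀ K, E ≤ K → K ≠ E → N ≤ K := fun K hK hne =>
      norm_le_of_lt hG le_rfl hS.rel (lt_of_le_of_ne hK (Ne.symm hne))
    have commN : ∀ x ∈ N, ∀ e ∈ E, x * e * x⁻¹ * e⁻¹ ∈ E := fun x hx e he =>
      mul_mem ((mem_normalizer_iff.mp hx e).mp he) (inv_mem he)
    have qmapi : ∀ K, Z ≤ K → (K.map q).index = K.index := fun K hK => index_map_eq _ hs (hker.symm ▸ hK)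
    have qne : ∀ K, Z ≤ K → K ≠ ⊤ → K.map q ≠ ⊤ := fun K hK h e => h (by
      have := congrArg index e
      rwa [qmapi K hK, index_top, index_eq_one] at this)
    have qstep : ∀ K, Z ≤ K → (K.map q).relIndex (normalizer (K.map q : Set (G ⧸ Z))) =
        K.relIndex (normalizer (K : Set G)) := fun K hK => by
      rw [norm_map hs (hker.symm ▸ hK), relIndex_map_map, hker,
        sup_eq_left.mpr hK, sup_eq_left.mpr (hK.trans le_normalizer)]
    -- the two reductions
    by_cases hcase : ∀ x, (∀ e ∈ E, x * e * x⁻¹ * e⁻¹ ∈ Z) → x ∈ E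
    · obtain ⟨hSq, -⟩ := map_soft hG Z hZE (fun a ha b hb => by
        rw [hS.comm a ha b hb]; simp [one_mem]) hcase hS.rel hS.idx
      obtain ⟨hstep', hcls'⟩ := ih (G ⧸ Z) (hG.to_quotient Z) hsmall _ hSq
      have hstep : ∀ K, E ≤ K → K ≠ ⊤ → K.relIndex (normalizer (K : Set G)) = p := fun K hK hKt =>
        qstep K (hZE.trans hK) ▸ hstep' _ (map_mono hK) (qne K (hZE.trans hK) hKt)
      refine ⟨hstep, fun i K hK hKt hi => lcs_bot hG hS hstep hK hKt fun x hx => hcase x fun e he => ?_⟩
      have hZK := hZE.trans hK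
      have h := hcls' i (K.map q) (map_mono hK) (qne K hZK hKt) (by rwa [qmapi K hZK, qmapi E hZE])
      rw [← map_lowerCentralSeries] at h
      have hmem : x * e * x⁻¹ * e⁻¹ ∈ K.lowerCentralSeries (i + 1) :=
        commutator_mem_commutator hx (hK he)
      have := h ▸ mem_map_of_mem q hmem
      rwa [mem_bot, ← MonoidHom.mem_ker, hker] at this
    · push_neg at hcase
      obtain ⟨x, hx, hxE⟩ := hcase
      have hxN : x ∈ N := mem_normalizer_iff.mpr fun e => by
        have key : ∀ a, a ∈ E → x * a * x⁻¹ ∈ E := fun a ha => by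
          simpa [mul_assoc] using mul_mem (hZE (hx a ha)) ha
        have hle : E.map (MulAut.conj x).toMonoidHom = E :=
          Subgroup.eq_of_le_of_card_ge (by rintro _ ⟨a, ha, rfl⟩; exact key a ha)
            (by rw [Subgroup.card_map_of_injective (MulAut.conj x).injective])
        refine ⟨key e, fun h => ?_⟩
        rw [← hle] at h
        exact (Subgroup.mem_map_iff_mem (f := (MulAut.conj x).toMonoidHom) (MulAut.conj x).injective).mp h
      -- the normalizer is abelian modulo Z
      let A := E ⊔ zpowers x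
      have hA : A = N := by
        rcases relIndex_eq_one_or (B := A) le_sup_left (sup_le hEN (zpowers_le.mpr hxN)) hS.rel with h | h
        · exact absurd (h.symm ▸ (le_sup_right (a := E) (mem_zpowers x)) : x ∈ E) hxE
        · exact h
      have hcommN : ∀ a ∈ N, ∀ b ∈ N, a * b * a⁻¹ * b⁻¹ ∈ Z := by
        have hq2 : ∀ a b, q a * q b = q b * q a → a * b * a⁻¹ * b⁻¹ ∈ Z := fun a b h => by
          rw [← hker, MonoidHom.mem_ker, map_mul, map_mul, map_mul, map_inv, map_inv, h]; simp [mul_assoc]
        have hgen : A.map q ≤ centralizer (A.map q : Set (G ⧸ Z)) := by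
          rw [show A.map q = E.map q ⊔ zpowers (q x) by rw [Subgroup.map_sup, MonoidHom.map_zpowers]]
          have h1 : ∀ a ∈ E, q x * q a = q a * q x := fun a ha => by
            have := hx a ha
            rw [← hker, MonoidHom.mem_ker, map_mul, map_mul, map_mul, map_inv, map_inv, mul_inv_eq_one,
              mul_inv_eq_iff_eq_mul] at this
            exact this
          refine sup_le ?_ ((zpowers_le).mpr ?_)
          · rintro _ ⟨a, ha, rfl⟩
            rw [sup_eq_closure_mul, centralizer_closure]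
            rintro _ ⟨_, ⟨b, hb, rfl⟩, _, ⟨k, rfl⟩, rfl⟩
            have hc1 : Commute (q a) (q b) := by
              show _ * _ = _ * _
              rw [← map_mul, ← map_mul, hS.comm a ha b hb]
            have hc2 : Commute (q a) (q x) := (h1 a ha).symm
            exact (hc1.mul_right (hc2.zpow_right k)).eq.symm
          · rw [sup_eq_closure_mul, centralizer_closure]
            rintro _ ⟨_, ⟨b, hb, rfl⟩, _, ⟨k, rfl⟩, rfl⟩
            exact ((show Commute (q x) (q b) from h1 b hb).mul_right ((Commute.refl (q x)).zpow_right k)).eq.symm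
        rw [hA] at hgen
        intro a ha b hb
        exact hq2 a b (mem_centralizer_iff.mp (hgen ⟨b, hb, rfl⟩) _ ⟨a, ha, rfl⟩)
      have hclsEN : ∀ (stepAll : ∀ K, E ≤ K → K ≠ ⊤ → K.relIndex (normalizer (K : Set G)) = p) (i : ℕ)
          (K : Subgroup G), (K = E ∨ K = N) → K.index * p ^ i = E.index → K.lowerCentralSeries (i + 1) = ⊥ := by
        intro stepAll i K hK hi
        rcases hK with rfl | rfl
        · obtain rfl : i = 0 := exp_le hi (by rw [pow_zero, mul_one])
          rw [Subgroup.lowerCentralSeries_succ, Subgroup.lowerCentralSeries_zero, commutator_eq_bot_iff_le_centralizer]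
          exact fun a ha => mem_centralizer_iff.mpr fun b hb => hS.comm b hb a ha
        · obtain rfl : i = 1 := exp_le hi (by rw [pow_one, indexN])
          refine lcs_bot hG hS stepAll hEN hNt ?_
          rw [Subgroup.lowerCentralSeries_succ, Subgroup.lowerCentralSeries_zero, commutator_le]
          exact fun a ha b hb => hZE (hcommN a ha b hb)
      by_cases hbig : p ^ 2 ≤ N.index
      · obtain ⟨hSq, -⟩ := map_soft hG Z (hZE.trans hEN) hcommN (fun y hy => by
          refine mem_normalizer_iff.mpr fun e => ?_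
          have key : ∀ a, a ∈ E → y * a * y⁻¹ ∈ E := fun a ha => by
            simpa [mul_assoc] using mul_mem (hZE (hy a (hEN ha))) ha
          have hle : E.map (MulAut.conj y).toMonoidHom = E :=
            Subgroup.eq_of_le_of_card_ge (by rintro _ ⟨a, ha, rfl⟩; exact key a ha)
              (by rw [Subgroup.card_map_of_injective (MulAut.conj y).injective])
          refine ⟨key e, fun h => ?_⟩
          rw [← hle] at h
          exact (Subgroup.mem_map_iff_mem (f := (MulAut.conj y).toMonoidHom) (MulAut.conj y).injective).mp h)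
          hNstep hbig
        obtain ⟨hstep', hcls'⟩ := ih (G ⧸ Z) (hG.to_quotient Z) hsmall _ hSq
        have hstep : ∀ K, E ≤ K → K ≠ ⊤ → K.relIndex (normalizer (K : Set G)) = p := fun K hK hKt => by
          by_cases hKE : K = E
          · rw [hKE]; exact hS.rel
          · exact qstep K (hZE.trans hK) ▸ hstep' _ (map_mono (above K hK hKE)) (qne K (hZE.trans hK) hKt)
        refine ⟨hstep, fun i K hK hKt hi => ?_⟩
        by_cases hKN : K = E ∨ K = N
        · exact hclsEN hstep i K hKN hi
        rw [not_or] at hKN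
        have hNK := above K hK hKN.1
        obtain ⟨j, rfl⟩ : ∃ j, i = j + 1 := by
          rcases i with _ | j
          · rw [pow_zero, mul_one] at hi
            exact absurd (le_antisymm (not_not.mp fun h => (index_strictAnti (lt_of_le_of_ne hK (Ne.symm hKN.1))).ne hi) hK) hKN.1
          · exact ⟨j, rfl⟩
        have hj : K.index * p ^ j = N.index := by
          refine Nat.eq_of_mul_eq_mul_right hp.out.pos ?_
          rw [indexN, ← hi, pow_succ, mul_assoc]
        have hZK := hZE.trans hK
        have h := hcls' j (K.map q) (map_mono hNK) (qne K hZK hKt) (by rwa [qmapi K hZK, qmapi N (hZE.trans hEN)])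
        rw [← map_lowerCentralSeries] at h
        rw [Subgroup.lowerCentralSeries_succ, commutator_eq_bot_iff_le_centralizer]
        intro a ha
        have hz : a ∈ Z := by
          have := h ▸ mem_map_of_mem q ha
          rwa [mem_bot, ← MonoidHom.mem_ker, hker] at this
        exact mem_centralizer_iff.mpr fun b _ => mem_center_iff.mp (hZc hz) b
      · have hall : ∀ K, E ≤ K → K ≠ ⊤ → K = E ∨ K = N := by
          intro K hK hKt
          by_contra hh
          rw [not_or] at hh
          have hlt : N < K := lt_of_le_of_ne (above K hK hh.1) (Ne.symm hh.2)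
          obtain ⟨a, ha⟩ := hG.index K
          have h1 : p ∣ K.index := by
            rcases a with _ | a
            · rw [pow_zero, index_eq_one] at ha; exact absurd ha hKt
            · exact ha ▸ dvd_pow_self p (Nat.succ_ne_zero a)
          obtain ⟨b, hb⟩ := (hG.to_subgroup K).index (N.subgroupOf K)
          have h2 : p ∣ N.relIndex K := by
            rcases b with _ | b
            · rw [pow_zero, index_eq_one, subgroupOf_eq_top] at hb; exact absurd hb hlt.not_ge
            · exact (show N.relIndex K = _ from hb) ▸ dvd_pow_self p (Nat.succ_ne_zero b)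
          refine hbig (sq p ▸ Nat.le_of_dvd (Nat.pos_of_ne_zero index_ne_zero_of_finite) ?_)
          rw [← relIndex_mul_index hlt.le]
          exact mul_dvd_mul h2 h1
        have hstep : ∀ K, E ≤ K → K ≠ ⊤ → K.relIndex (normalizer (K : Set G)) = p := fun K hK hKt => by
          rcases hall K hK hKt with rfl | rfl
          · exact hS.rel
          · exact hNstep
        exact ⟨hstep, fun i K hK hKt hi => hclsEN hstep i K (hall K hK hKt) hi⟩

theorem le_class {p : ℕ} [hp : Fact p.Prime] {G : Type*} [Group G] [Finite G] {E : Subgroup G} (hS : Soft p E)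
    (hstep : ∀ K, E ≤ K → K ≠ ⊤ → K.relIndex (normalizer (K : Set G)) = p) {i : ℕ} {K : Subgroup G}
    [Group.IsNilpotent ↥K] (hK : E ≤ K) (hi : K.index * p ^ i = E.index) :
    i = 0 ∨ i + 1 ≤ Group.nilpotencyClass ↥K := by
  let H : ℕ → Subgroup G := fun j => E ⊔ (Subgroup.upperCentralSeries ↥K (j + 1)).map K.subtype
  have hnorm : ∀ j, H (j + 1) ≤ normalizer (H j : Set G) := by
    intro j
    refine sup_le ((le_sup_left).trans le_normalizer) ?_
    rintro _ ⟨y, hy, rfl⟩
    have key : ∀ w : ↥K, w ∈ Subgroup.upperCentralSeries ↥K (j + 2) → ∀ h ∈ H j, (w : G) * h * (w : G)⁻¹ ∈ H j := by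
      intro w hw h hh
      have hhK : h ∈ K := (sup_le hK (map_subtype_le _)) hh
      have := Subgroup.mem_upperCentralSeries_succ_iff.mp hw ⟨h, hhK⟩
      have h2 : (w : G) * h * (w : G)⁻¹ * h⁻¹ ∈ H j := le_sup_right (a := E) ⟨_, this, rfl⟩
      simpa [mul_assoc] using mul_mem h2 hh
    refine mem_normalizer_iff.mpr fun h => ⟨key y hy h, fun h' => ?_⟩
    have := key y⁻¹ (inv_mem hy) _ h'
    simpa [mul_assoc] using this
  have hidx : ∀ j, E.index ≤ (H j).index * p ^ j := by
    intro j
    induction j with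
    | zero =>
      rw [pow_zero, mul_one]
      refine le_of_eq (congrArg index (sup_eq_left.mpr ?_).symm)
      rintro _ ⟨⟨y, hyK⟩, hy, rfl⟩
      rw [Subgroup.upperCentralSeries_one] at hy
      replace hy := mem_center_iff.mp hy
      exact hS.cent (mem_centralizer_iff.mpr fun e he => congrArg Subtype.val (hy ⟨e, hK he⟩))
    | succ j ih =>
      refine ih.trans ?_
      rw [pow_succ, ← mul_assoc, mul_right_comm]
      refine Nat.mul_le_mul_right _ ?_
      by_cases ht : H j = ⊤
      · rw [ht, index_top]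
        exact Nat.one_le_iff_ne_zero.mpr (mul_ne_zero (by simpa using index_ne_zero_of_finite) hp.out.ne_zero)
      · rw [← relIndex_mul_index (le_normalizer (H := H j)), hstep _ le_sup_left ht, mul_comm]
        exact Nat.mul_le_mul_right _ (Nat.le_of_dvd (Nat.pos_of_ne_zero index_ne_zero_of_finite)
          (index_dvd_of_le (hnorm j)))
  rcases Nat.eq_zero_or_pos i with h0 | hpos
  · exact Or.inl h0
  refine Or.inr ?_
  set c := Group.nilpotencyClass ↥K with hc
  have hH : H (c - 1) = K := by
    have hc1 : c ≤ c - 1 + 1 := by omega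
    show E ⊔ (Subgroup.upperCentralSeries ↥K (c - 1 + 1)).map K.subtype = K
    rw [Subgroup.upperCentralSeries_eq_top_iff_nilpotencyClass_le.mpr hc1, ← MonoidHom.range_eq_map, range_subtype,
      sup_eq_right.mpr hK]
  have h := hidx (c - 1)
  rw [hH, ← hi] at h
  have h3 := (Nat.pow_le_pow_iff_right hp.out.one_lt).mp
    (Nat.le_of_mul_le_mul_left h (Nat.pos_of_ne_zero index_ne_zero_of_finite))
  omega

theorem main {p : ℕ} [hp : Fact p.Prime] {G : Type*} [Group G] [Finite G] (hG : IsPGroup p G) {E : Subgroup G}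
    (hS : Soft p E) :
    (∀ K L : Subgroup G, E ≤ K → E ≤ L → K ≤ L ∨ L ≤ K) ∧
      (∀ K : Subgroup G, E ≤ K → K ≠ ⊤ → K.relIndex (normalizer (K : Set G)) = p) ∧
      ∀ (i : ℕ) (K : Subgroup G) [Group.IsNilpotent ↥K], E ≤ K → K ≠ ⊤ → K.index * p ^ i = E.index →
        Group.nilpotencyClass ↥K = i + 1 := by
  obtain ⟨hstep, hcls⟩ := good (Nat.card G) G hG le_rfl E hS
  refine ⟨fun K L => chain hG hstep, hstep, fun i K _ hK hKt hi => ?_⟩
  have hup : Group.nilpotencyClass ↥K ≤ i + 1 := by
    rw [← Subgroup.lowerCentralSeries_eq_bot_iff_nilpotencyClass_le]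
    refine map_injective (K.subtype_injective) ?_
    rw [top_subtype_lowerCentralSeries, hcls i K hK hKt hi, Subgroup.map_bot]
  rcases le_class hS hstep hK hi with h | h
  · subst h
    refine le_antisymm hup (Nat.one_le_iff_ne_zero.mpr fun h0 => ?_)
    have hsub : Subsingleton ↥K := nilpotencyClass_zero_iff_subsingleton.mp h0
    have hEbot : ∀ e ∈ E, e = 1 := fun e he => congrArg Subtype.val (hsub.elim ⟨e, hK he⟩ 1)
    have hN : normalizer (E : Set G) ≤ E := fun x _ => hS.cent (mem_centralizer_iff.mpr fun e he => by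
      rw [hEbot e he, one_mul, mul_one])
    have := hS.rel
    rw [relIndex_eq_one.mpr hN] at this
    exact hp.out.one_lt.ne this
  · exact le_antisymm hup h

end Cfsg.Agent.SoftSub
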