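import Cfsg.Agent.Lib.Classical.SL2

/-! Two commuting special linear groups of degree two. -/

set_option autoImplicit false
set_option maxHeartbeats 1000000

namespace Cfsg.Agent.TwoSL2

open Subgroup Matrix

variable {F : Type*} [Field F]

local notation "S2" => Matrix.SpecialLinearGroup (Fin 2) F

def up (t : F) : S2 := ⟨!![1, t; 0, 1], by simp [Matrix.det_fin_two]⟩

def dn (t : F) : S2 := ⟨!![1, 0; t, 1], by simp [Matrix.det_fin_two]⟩

/-- Commuting up to sign. -/
def CS (a b : S2) : Prop := (a : Matrix (Fin 2) (Fin 2) F) * b = b * a ∨ (a : Matrix (Fin 2) (Fin 2) F) * b = -(b * a)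

theorem ext2 {a b : S2} (h00 : a 0 0 = b 0 0) (h01 : a 0 1 = b 0 1) (h10 : a 1 0 = b 1 0) (h11 : a 1 1 = b 1 1) :
    a = b := Subtype.ext (Classical.SL2.coord h00 h01 h10 h11)

theorem det2 (a : S2) : a 0 0 * a 1 1 - a 0 1 * a 1 0 = 1 := by
  rw [← Matrix.det_fin_two]; exact a.2

/-- An element commuting up to sign with a transvection. -/
theorem upper (h2 : (2 : F) ≠ 0) {a : S2} {t : F} (ht : t ≠ 0)
    (h : (a : Matrix (Fin 2) (Fin 2) F) * !![1, t; 0, 1] = !![1, t; 0, 1] * a ∨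
      (a : Matrix (Fin 2) (Fin 2) F) * !![1, t; 0, 1] = -(!![1, t; 0, 1] * a)) :
    a 1 0 = 0 ∧ a 0 0 = a 1 1 ∧ (a 0 0 = 1 ∨ a 0 0 = -1) := by
  have hd := det2 a
  rcases h with h | h
  · have e00 := congrFun (congrFun h 0) 0
    have e01 := congrFun (congrFun h 0) 1
    simp [Matrix.mul_apply, Fin.sum_univ_two] at e00 e01
    have hc : a 1 0 = 0 := e00.resolve_left ht
    have hda : a 0 0 = a 1 1 := mul_left_cancel₀ ht (by linear_combination e01)
    refine ⟨hc, hda, mul_self_eq_one_iff.mp ?_⟩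
    rw [hc] at hd; rw [← hda] at hd
    linear_combination hd
  · exfalso
    have e00 := congrFun (congrFun h 0) 0
    have e01 := congrFun (congrFun h 0) 1
    have e10 := congrFun (congrFun h 1) 0
    have e11 := congrFun (congrFun h 1) 1
    simp only [Matrix.neg_apply, Matrix.mul_apply, Fin.sum_univ_two] at e00 e01 e10 e11
    simp at e00 e01 e10 e11
    have hc : a 1 0 = 0 := by
      have : (2 : F) * a 1 0 = 0 := by linear_combination e10
      exact (mul_eq_zero.mp this).resolve_left h2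
    rw [hc] at hd e00
    have : (2 : F) * a 0 0 = 0 := by linear_combination e00
    rw [(mul_eq_zero.mp this).resolve_left h2] at hd
    simp at hd

theorem key (h2 : (2 : F) ≠ 0) {P Q : Subgroup S2} [P.Normal] [Q.Normal] (hPQ : P ⊔ Q = ⊤)
    (hc : ∀ a ∈ P, ∀ b ∈ Q, CS a b) :
    (∀ w ∈ P, w = 1 ∨ (w : Matrix (Fin 2) (Fin 2) F) = -1) ∨
      (∀ w ∈ Q, w = 1 ∨ (w : Matrix (Fin 2) (Fin 2) F) = -1) := by
  have sym : ∀ a b : S2, CS a b → CS b a := fun a b h => h.imp Eq.symm fun e => by rw [e, neg_neg]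
  obtain ⟨a, ha, b, hb, hab⟩ : ∃ a ∈ P, ∃ b ∈ Q, a * b = up (1 : F) :=
    Subgroup.mem_sup_of_normal_right.mp (hPQ ▸ mem_top _)
  have hval : (a : Matrix (Fin 2) (Fin 2) F) * (b : Matrix (Fin 2) (Fin 2) F) = !![1, 1; 0, 1] :=
    congrArg Subtype.val hab
  have hA := upper h2 (a := a) (one_ne_zero (α := F)) (by
    rw [← hval]
    rcases hc a ha b hb with e | e
    · left; conv_rhs => rw [Matrix.mul_assoc, ← e]
    · right; conv_rhs => rw [Matrix.mul_assoc, ← Matrix.mul_neg, ← e])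
  have hB := upper h2 (a := b) (one_ne_zero (α := F)) (by
    rw [← hval]
    rcases hc a ha b hb with e | e
    · left; rw [← Matrix.mul_assoc, e]
    · right; rw [← Matrix.mul_assoc, ← Matrix.neg_mul, e, neg_neg])
  -- a member that is a signed transvection forces the other side to be scalar
  have main : ∀ {R R' : Subgroup S2}, R.Normal → (∀ x ∈ R, ∀ w ∈ R', CS x w) → ∀ x ∈ R, x 1 0 = 0 → x 0 0 = x 1 1 →
      (x 0 0 = 1 ∨ x 0 0 = -1) → x 0 1 ≠ 0 → ∀ w ∈ R', w = 1 ∨ (w : Matrix (Fin 2) (Fin 2) F) = -1 := by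
    intro R R' hR hcs x hx x10 xd xs x01 w hw
    have hcomm : ∀ (y : S2) (t : F), y ∈ R → t ≠ 0 →
        ((y : Matrix (Fin 2) (Fin 2) F) = !![1, t; 0, 1] ∨ (y : Matrix (Fin 2) (Fin 2) F) = -!![1, t; 0, 1]) →
        ∀ w ∈ R', w 1 0 = 0 ∧ w 0 0 = w 1 1 ∧ (w 0 0 = 1 ∨ w 0 0 = -1) := by
      intro y t hy ht hyv w hw
      refine upper h2 ht ?_
      rcases sym _ _ (hcs y hy w hw) with e | e <;> rcases hyv with v | v <;> rw [v] at e
      · exact Or.inl e
      · simp only [Matrix.mul_neg, Matrix.neg_mul, neg_inj] at e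
        exact Or.inl e
      · exact Or.inr e
      · simp only [Matrix.mul_neg, Matrix.neg_mul, neg_inj, neg_neg] at e
        exact Or.inr (neg_eq_iff_eq_neg.mp e)
    have xval : ∃ t : F, t ≠ 0 ∧ ((x : Matrix (Fin 2) (Fin 2) F) = !![1, t; 0, 1] ∨
        (x : Matrix (Fin 2) (Fin 2) F) = -!![1, t; 0, 1]) := by
      rcases xs with e | e
      · exact ⟨x 0 1, x01, Or.inl (Classical.SL2.coord (by simp [e]) (by simp) (by simp [x10]) (by simp [← xd, e]))⟩
      · exact ⟨-x 0 1, neg_ne_zero.mpr x01, Or.inr (Classical.SL2.coord (by simp [e]) (by simp) (by simp [x10])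
          (by simp [← xd, e]))⟩
    obtain ⟨t, ht, hxv⟩ := xval
    obtain ⟨w10, wd, ws⟩ := hcomm x t hx ht hxv w hw
    -- conjugate to a lower transvection
    let s : S2 := ⟨!![0, 1; -1, 0], by simp [Matrix.det_fin_two]⟩
    have hy := hR.conj_mem x hx s
    have hyv : ((s * x * s⁻¹ : S2) : Matrix (Fin 2) (Fin 2) F) = !![1, 0; -t, 1] ∨
        ((s * x * s⁻¹ : S2) : Matrix (Fin 2) (Fin 2) F) = -!![1, 0; -t, 1] := by
      rcases hxv with v | v
      · left
        rw [Matrix.SpecialLinearGroup.coe_mul, Matrix.SpecialLinearGroup.coe_mul, Matrix.SpecialLinearGroup.coe_inv, v]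
        simp [s, Matrix.adjugate_fin_two, Matrix.mul_fin_two]
      · right
        rw [Matrix.SpecialLinearGroup.coe_mul, Matrix.SpecialLinearGroup.coe_mul, Matrix.SpecialLinearGroup.coe_inv, v]
        simp [s, Matrix.adjugate_fin_two, Matrix.mul_fin_two]
    have w01 : w 0 1 = 0 := by
      have hcw : (w : Matrix (Fin 2) (Fin 2) F) * !![1, 0; -t, 1] = !![1, 0; -t, 1] * w ∨
          (w : Matrix (Fin 2) (Fin 2) F) * !![1, 0; -t, 1] = -(!![1, 0; -t, 1] * w) := by
        rcases sym _ _ (hcs _ hy w hw) with e | e <;> rcases hyv with v | v <;> rw [v] at e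
        · exact Or.inl e
        · simp only [Matrix.mul_neg, Matrix.neg_mul, neg_inj] at e
          exact Or.inl e
        · exact Or.inr e
        · simp only [Matrix.mul_neg, Matrix.neg_mul, neg_inj, neg_neg] at e
          exact Or.inr (neg_eq_iff_eq_neg.mp e)
      rcases hcw with e | e
      · have e00 := congrFun (congrFun e 0) 0
        simp only [Matrix.mul_apply, Fin.sum_univ_two] at e00
        simp at e00
        exact e00.resolve_right ht
      · exfalso
        have e10 := congrFun (congrFun e 1) 0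
        simp only [Matrix.neg_apply, Matrix.mul_apply, Fin.sum_univ_two] at e10
        simp [w10, ← wd] at e10
        have h4 : ((2 : F) * t) * w 0 0 = 0 := by first | linear_combination e10 | linear_combination -e10
        have h0 := (mul_eq_zero.mp h4).resolve_left (mul_ne_zero h2 ht)
        rcases ws with w1 | w1 <;> rw [h0] at w1 <;> simp at w1
    rcases ws with w1 | w1
    · left; exact ext2 (by simp [w1]) (by simp [w01]) (by simp [w10]) (by simp [← wd, w1])
    · right; exact Classical.SL2.coord (by simp [w1]) (by simp [w01]) (by simp [w10]) (by simp [← wd, w1])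
  by_cases ha1 : a 0 1 = 0
  · by_cases hb1 : b 0 1 = 0
    · have := congrFun (congrFun hval 0) 1
      simp [Matrix.mul_apply, Fin.sum_univ_two, ha1, hb1] at this
    · exact Or.inl (main inferInstance (fun x hx w hw => sym _ _ (hc w hw x hx)) b hb hB.1 hB.2.1 hB.2.2 hb1)
  · exact Or.inr (main inferInstance hc a ha hA.1 hA.2.1 hA.2.2 ha1)

/-- One of two commuting normal subgroups generating a pair of glued factors lies in a factor. -/
theorem one_side {G : Type*} [Group G] [Fintype F] (hF : Odd (Fintype.card F)) (L1 L2 M N : Subgroup G)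
    (e : ↥L1 ≃* S2) (hc : ∀ x ∈ L1, ∀ y ∈ L2, x * y = y * x) {j : G} (hj : orderOf j = 2)
    (hm : L1 ⊓ L2 = zpowers j) (hjM : j ∈ M) (hjN : j ∈ N)
    (hM : M ≤ L1 ⊔ L2) (hN : N ≤ L1 ⊔ L2) (hMn : ∀ g ∈ L1 ⊔ L2, ∀ x ∈ M, g * x * g⁻¹ ∈ M)
    (hNn : ∀ g ∈ L1 ⊔ L2, ∀ x ∈ N, g * x * g⁻¹ ∈ N) (hMN : ∀ x ∈ M, ∀ y ∈ N, x * y = y * x)
    (hsup : L1 ≤ M ⊔ N) : M ≤ L2 ∨ N ≤ L2 := by
  have h2 : (2 : F) ≠ 0 := by
    intro h
    have hchar : ringChar F = 2 := by
      have hd : ringChar F ∣ 2 := ringChar.dvd (by exact_mod_cast h)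
      rcases (Nat.dvd_prime Nat.prime_two).mp hd with e' | e'
      · exact absurd e' CharP.ringChar_ne_one
      · exact e'
    rw [FiniteField.even_card_iff_char_two] at hchar
    exact Nat.not_even_iff_odd.mpr hF (Nat.even_iff.mpr hchar)
  have hj1 : j ∈ L1 ∧ j ∈ L2 := mem_inf.mp (hm ▸ mem_zpowers j)
  have decomp : ∀ z ∈ L1 ⊔ L2, ∃ a ∈ L1, ∃ b ∈ L2, a * b = z := by
    intro z hz
    have hn : L1 ≤ normalizer (L2 : Set G) := fun x hx => mem_normalizer_iff.mpr fun y => ⟨fun hy => by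
      rw [hc x hx y hy, mul_inv_cancel_right]; exact hy, fun hy => by
      have h := hc x⁻¹ (inv_mem hx) _ hy
      have e : y = x * y * x⁻¹ := by
        have := congrArg (· * x) h
        simp only [mul_assoc, inv_mul_cancel_left, inv_mul_cancel, mul_one] at this
        simpa [mul_assoc] using this
      rw [e]; exact hy⟩
    have : z ∈ ((L1 ⊔ L2 : Subgroup G) : Set G) := hz
    rw [coe_mul_of_left_le_normalizer_right L1 L2 hn] at this
    obtain ⟨a, ha, b, hb, rfl⟩ := this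
    exact ⟨a, ha, b, hb, rfl⟩
  let π : Subgroup G → Subgroup S2 := fun R => ((R ⊔ L2).subgroupOf L1).map e.toMonoidHom
  have hmemπ : ∀ R : Subgroup G, ∀ a : ↥L1, e a ∈ π R ↔ (a : G) ∈ R ⊔ L2 := fun R a => by
    simp only [π, Subgroup.mem_map_equiv, MulEquiv.symm_apply_apply, mem_subgroupOf]
  have hnorm : ∀ R : Subgroup G, (∀ g ∈ L1 ⊔ L2, ∀ x ∈ R, g * x * g⁻¹ ∈ R) → (π R).Normal := by
    intro R hR
    refine ⟨fun w hw g => ?_⟩
    obtain ⟨a, rfl⟩ := e.surjective w
    obtain ⟨c, rfl⟩ := e.surjective g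
    rw [hmemπ] at hw
    rw [← map_inv, ← map_mul, ← map_mul, hmemπ]
    have : (R ⊔ L2).map (MulAut.conj (c : G)).toMonoidHom ≤ R ⊔ L2 := by
      rw [Subgroup.map_sup]
      refine sup_le_sup ?_ ?_
      · rintro _ ⟨x, hx, rfl⟩; exact hR _ (mem_sup_left c.2) x hx
      · rintro _ ⟨x, hx, rfl⟩
        show (c : G) * x * (c : G)⁻¹ ∈ L2
        rw [hc _ c.2 x hx, mul_inv_cancel_right]; exact hx
    exact this ⟨_, hw, rfl⟩
  have hjc : ∀ x ∈ L1, x * j = j * x := fun x hx => hc x hx j hj1.2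
  have split : ∀ R ≤ L1 ⊔ L2, ∀ a ∈ L1, a ∈ R ⊔ L2 → ∃ r ∈ R, ∃ b ∈ L2, r = a * b := by
    intro R hR a ha h
    have hn : L2 ≤ normalizer (L2 : Set G) := le_normalizer
    have hRn : R ≤ normalizer (L2 : Set G) := fun x hx => by
      obtain ⟨u, hu, v, hv, rfl⟩ := decomp x (hR hx)
      refine mul_mem ?_ (hn hv)
      exact mem_normalizer_iff.mpr fun y => ⟨fun hy => by
        rw [hc u hu y hy, mul_inv_cancel_right]; exact hy, fun hy => by
        have h := hc u⁻¹ (inv_mem hu) _ hy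
        have e : y = u * y * u⁻¹ := by
          have := congrArg (· * u) h
          simp only [mul_assoc, inv_mul_cancel_left, inv_mul_cancel, mul_one] at this
          simpa [mul_assoc] using this
        rw [e]; exact hy⟩
    have h' : a ∈ ((R ⊔ L2 : Subgroup G) : Set G) := h
    rw [coe_mul_of_left_le_normalizer_right R L2 hRn] at h'
    obtain ⟨r, hr, b, hb, rfl⟩ := h'
    exact ⟨r, hr, b⁻¹, inv_mem hb, by simp⟩
  -- the element j
  have scal : ∀ a : ↥L1, (∀ c : ↥L1, a * c = c * a) → e a = 1 ∨ (e a : Matrix (Fin 2) (Fin 2) F) = -1 := by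
    intro a ha
    have hcomm : ∀ y : S2, (e a : Matrix (Fin 2) (Fin 2) F) * y = y * e a := fun y => by
      obtain ⟨c, rfl⟩ := e.surjective y
      exact congrArg Subtype.val (by rw [← map_mul, ha c, map_mul] : e a * e c = e c * e a)
    obtain ⟨a10, ad, as⟩ := upper h2 (a := e a) (one_ne_zero (α := F)) (Or.inl (hcomm (up 1)))
    have h := congrFun (congrFun (hcomm (dn 1)) 0) 0
    simp [dn, Matrix.mul_apply, Fin.sum_univ_two] at h
    rcases as with w1 | w1
    · left; exact ext2 (by simp [w1]) (by simp [h]) (by simp [a10]) (by simp [← ad, w1])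
    · right; exact Classical.SL2.coord (by simp [w1]) (by simp [h]) (by simp [a10]) (by simp [← ad, w1])
  have hej : (e ⟨j, hj1.1⟩ : Matrix (Fin 2) (Fin 2) F) = -1 := by
    refine (scal _ fun c => Subtype.ext (hjc c c.2).symm).resolve_left fun h => ?_
    have : (⟨j, hj1.1⟩ : ↥L1) = 1 := e.injective (h.trans (map_one e).symm)
    rw [show j = 1 from congrArg Subtype.val this, orderOf_one] at hj
    exact absurd hj (by norm_num)
  have inj : ∀ a : ↥L1, e a = 1 ∨ (e a : Matrix (Fin 2) (Fin 2) F) = -1 → (a : G) ∈ L2 := by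
    intro a h
    rcases h with h | h
    · rw [e.injective (h.trans (map_one e).symm)]; exact one_mem _
    · rw [e.injective (Subtype.ext (h.trans hej.symm) : e a = e ⟨j, hj1.1⟩)]; exact hj1.2
  haveI := hnorm M hMn
  haveI := hnorm N hNn
  have hsupπ : π M ⊔ π N = ⊤ := by
    rw [eq_top_iff]
    intro w _
    obtain ⟨a, rfl⟩ := e.surjective w
    have hMNn : M ≤ normalizer (N : Set G) := fun x hx => mem_normalizer_iff.mpr fun y => ⟨fun hy => hNn x (hM hx) y hy,
      fun hy => by simpa [mul_assoc] using hNn x⁻¹ (inv_mem (hM hx)) _ hy⟩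
    have h' : (a : G) ∈ ((M ⊔ N : Subgroup G) : Set G) := hsup a.2
    rw [coe_mul_of_left_le_normalizer_right M N hMNn] at h'
    obtain ⟨m, hm', n, hn', hmn⟩ := h'
    obtain ⟨a1, ha1, b1, hb1, rfl⟩ := decomp m (hM hm')
    have h1 : e ⟨a1, ha1⟩ ∈ π M := (hmemπ M ⟨a1, ha1⟩).mpr (by
      simpa using mul_mem (mem_sup_left (T := L2) hm') (mem_sup_right (S := M) (inv_mem hb1)))
    have h3 : e (⟨a1, ha1⟩⁻¹ * a) ∈ π N := (hmemπ N _).mpr (by
      have : ((⟨a1, ha1⟩⁻¹ * a : ↥L1) : G) = b1 * n := by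
        simp only [Subgroup.coe_mul, Subgroup.coe_inv]
        rw [← hmn]; simp [mul_assoc]
      rw [this]
      exact mul_mem (mem_sup_right hb1) (mem_sup_left hn'))
    have := mul_mem (mem_sup_left (T := π N) h1) (mem_sup_right (S := π M) h3)
    rwa [← map_mul, mul_inv_cancel_left] at this
  have hcs : ∀ x ∈ π M, ∀ y ∈ π N, CS x y := by
    intro x hx y hy
    obtain ⟨a, rfl⟩ := e.surjective x
    obtain ⟨c, rfl⟩ := e.surjective y
    rw [hmemπ] at hx hy
    obtain ⟨m, hm', b, hb, rfl⟩ := split M hM a a.2 hx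
    obtain ⟨n, hn', d, hd, rfl⟩ := split N hN c c.2 hy
    have h := hMN _ hm' _ hn'
    have hkey : ((a * c) * (c * a)⁻¹ : ↥L1).1 ∈ L2 := by
      have e1 : (a : G) * b * ((c : G) * d) = (a : G) * c * (b * d) := by
        rw [mul_assoc, ← mul_assoc b, ← hc _ c.2 b hb]; simp [mul_assoc]
      have e2 : (c : G) * d * ((a : G) * b) = (c : G) * a * (d * b) := by
        rw [mul_assoc, ← mul_assoc d, ← hc _ a.2 d hd]; simp [mul_assoc]
      rw [e1, e2] at h
      have e3 : ((c : G) * a)⁻¹ * ((a : G) * c) = d * b * (b * d)⁻¹ := by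
        rw [inv_mul_eq_iff_eq_mul, ← mul_assoc, ← h]; simp [mul_assoc]
      have hin : ((c : G) * a)⁻¹ * ((a : G) * c) ∈ L2 := e3 ▸ mul_mem (mul_mem hd hb) (inv_mem (mul_mem hb hd))
      have hcm := hc ((c : G) * a) (mul_mem c.2 a.2) _ hin
      rw [mul_inv_cancel_left] at hcm
      show (a : G) * c * ((c : G) * a)⁻¹ ∈ L2
      rw [hcm, mul_inv_cancel_right]
      exact hin
    have hz : ((a * c) * (c * a)⁻¹ : ↥L1).1 ∈ zpowers j := hm ▸ mem_inf.mpr ⟨SetLike.coe_mem _, hkey⟩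
    obtain ⟨k, hk⟩ := hz
    have hk' : (a * c) = (⟨j, hj1.1⟩ : ↥L1) ^ k * (c * a) := by
      rw [← mul_inv_eq_iff_eq_mul]; exact Subtype.ext (by simpa using hk.symm)
    have hE := congrArg (fun z : ↥L1 => (e z : Matrix (Fin 2) (Fin 2) F)) hk'
    simp only [map_mul, map_zpow, Matrix.SpecialLinearGroup.coe_mul] at hE
    rcases Int.even_or_odd k with ⟨l, rfl⟩ | ⟨l, rfl⟩
    all_goals
      have hsq : (e ⟨j, hj1.1⟩) * (e ⟨j, hj1.1⟩) = 1 := Subtype.ext (by
        rw [Matrix.SpecialLinearGroup.coe_mul, hej]; simp)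
    · left
      rw [← two_mul, _root_.zpow_mul, zpow_two, hsq, _root_.one_zpow] at hE
      simpa using hE
    · right
      rw [_root_.zpow_add, _root_.zpow_mul, zpow_two, hsq, _root_.one_zpow, one_mul, zpow_one, hej] at hE
      simpa using hE
  rcases key h2 hsupπ hcs with h | h
  · left
    intro m hm'
    obtain ⟨a, ha, b, hb, rfl⟩ := decomp m (hM hm')
    refine mul_mem (inj ⟨a, ha⟩ (h _ ((hmemπ M ⟨a, ha⟩).mpr ?_))) hb
    simpa using mul_mem (mem_sup_left (T := L2) hm') (mem_sup_right (S := M) (inv_mem hb))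
  · right
    intro m hm'
    obtain ⟨a, ha, b, hb, rfl⟩ := decomp m (hN hm')
    refine mul_mem (inj ⟨a, ha⟩ (h _ ((hmemπ N ⟨a, ha⟩).mpr ?_))) hb
    simpa using mul_mem (mem_sup_left (T := L2) hm') (mem_sup_right (S := N) (inv_mem hb))

end Cfsg.Agent.TwoSL2
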